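import Cfsg.Agent.Lib.Char.Integrality
import Cfsg.Agent.Lib.Char.Basic

/-!
Irreducible constituents moved by a given element, and divisibility from integrality of central
characters.
-/

set_option autoImplicit false

namespace CfsgLib.LinDeg

open Module Cfsg CfsgLib.Char

universe u v

variable {G : Type u} [Group G] [Finite G]

/-- A representation moved by `g` has an irreducible constituent moved by `g`. -/
theorem exists_irr_ne_one {g : G} {V : Type v} [AddCommGroup V] [Module ℂ V] [FiniteDimensional ℂ V]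
    (ρ : Representation ℂ G V) (hg : ρ g ≠ 1) :
    ∃ (n : ℕ) (σ : Representation ℂ G (Fin n → ℂ)), σ.IsIrreducible ∧ σ g ≠ 1 ∧ n ≤ finrank ℂ V := by
  revert hg
  refine rep_induction (fun V _ _ ρ => ρ g ≠ 1 →
    ∃ (n : ℕ) (σ : Representation ℂ G (Fin n → ℂ)), σ.IsIrreducible ∧ σ g ≠ 1 ∧ n ≤ finrank ℂ V)
    ?_ ?_ ?_ V ρ
  · intro V _ _ _ ρ h
    exact absurd (LinearMap.ext fun x => Subsingleton.elim _ _) h
  · intro V _ _ _ ρ _ h
    refine ⟨_, toCoord ρ, isIrreducible_of_equiv (conjRepEquiv ρ _), ?_, le_rfl⟩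
    intro h'
    apply h
    refine (Module.finBasis ℂ V).equivFun.conj.injective ?_
    exact h'.trans ((LinearEquiv.conj_id _).symm)
  · intro V _ _ _ ρ S T hST hS hT h
    have hr := finrank_compl hST
    by_cases h1 : S.toRepresentation g = 1
    · by_cases h2 : T.toRepresentation g = 1
      · exfalso
        apply h
        refine LinearMap.ext fun x => ?_
        obtain ⟨y, hy, z, hz, rfl⟩ := Submodule.mem_sup.1 (show x ∈ S.toSubmodule ⊔ T.toSubmodule by
          rw [(isCompl_toSubmodule hST).sup_eq_top]; trivial)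
        have e1 : ρ g y = y := congrArg Subtype.val (congrArg (fun F => F ⟨y, hy⟩) h1)
        have e2 : ρ g z = z := congrArg Subtype.val (congrArg (fun F => F ⟨z, hz⟩) h2)
        simp [e1, e2]
      · obtain ⟨n, σ, h3, h4, h5⟩ := hT h2
        exact ⟨n, σ, h3, h4, by omega⟩
    · obtain ⟨n, σ, h3, h4, h5⟩ := hS h1
      exact ⟨n, σ, h3, h4, by omega⟩

/-- A rational algebraic integer `a / b` means `b ∣ a`. -/
theorem dvd_of_isIntegral_div {a : ℤ} {b : ℕ} (hb : b ≠ 0)
    (h : IsIntegral ℤ ((a : ℂ) / (b : ℂ))) : (b : ℤ) ∣ a := by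
  have h1 : ((a : ℂ) / (b : ℂ)) = algebraMap ℚ ℂ ((a : ℚ) / (b : ℚ)) := by simp
  rw [h1] at h
  have h2 := (isIntegral_algebraMap_iff (algebraMap ℚ ℂ).injective).1 h
  obtain ⟨c, hc⟩ := IsIntegrallyClosed.isIntegral_iff.1 h2
  refine ⟨c, ?_⟩
  have hbq : (b : ℚ) ≠ 0 := by exact_mod_cast hb
  have : (a : ℚ) = (b : ℚ) * c := by
    simp only [algebraMap_int_eq, eq_intCast] at hc
    rw [hc]; field_simp
  exact_mod_cast this

/-- The degree divides class size times character value when the latter is an integer. -/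
theorem dvd_card_class_mul {n : ℕ} (ρ : Representation ℂ G (Fin n → ℂ)) [ρ.IsIrreducible] (g : G)
    (t : ℤ) (ht : ρ.character g = t) :
    (n : ℤ) ∣ (Nat.card {x : G // IsConj g x} : ℤ) * t := by
  have hn : n ≠ 0 := by
    intro h
    have := finrank_pos_of_irreducible ρ
    rw [Module.finrank_fin_fun, h] at this
    exact lt_irrefl 0 this
  refine dvd_of_isIntegral_div hn ?_
  have h := isIntegral_omega_rep ρ g
  rw [omega, ht, Representation.char_one, Module.finrank_fin_fun] at h
  push_cast
  exact h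

end CfsgLib.LinDeg
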