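import Mathlib

/-!
Eigen-decomposition of a representation of the additive group `F^m` over a field of different
characteristic.
-/

set_option autoImplicit false

namespace CfsgLib.LinDeg

open Module Matrix

variable {F : Type*} [Field F] [Fintype F] {K : Type*} [Field K] {V : Type*} [AddCommGroup V]
  [Module K V] {m : ℕ}

theorem exists_primitiveChar (F : Type*) [Field F] [Finite F] (K : Type*) [Field K] [IsAlgClosed K]
    (h : ringChar K ≠ ringChar F) : ∃ ψ : AddChar F K, ψ.IsPrimitive := by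
  let P := AddChar.FiniteField.primitiveChar F K h
  haveI : FiniteDimensional K (CyclotomicField P.n K) :=
    inferInstanceAs (FiniteDimensional K (Polynomial.cyclotomic P.n K).SplittingField)
  haveI : Algebra.IsAlgebraic K (CyclotomicField P.n K) := Algebra.IsAlgebraic.of_finite K _
  let g : CyclotomicField P.n K →ₐ[K] K := IsAlgClosed.lift
  refine ⟨g.toRingHom.toMonoidHom.compAddChar P.char, AddChar.IsPrimitive.of_ne_one fun h1 => ?_⟩
  have hne : P.char ≠ 1 := by simpa using P.prim (one_ne_zero (α := F))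
  apply hne
  ext x
  apply g.toRingHom.injective
  simpa using congrArg (fun φ : AddChar F K => φ x) h1

theorem card_ne_zero (F : Type*) [Field F] [Fintype F] (K : Type*) [Field K]
    (h : ringChar K ≠ ringChar F) : (Fintype.card F : K) ≠ 0 := by
  obtain ⟨f, hp, hf⟩ := FiniteField.card F (ringChar F)
  rw [hf, Nat.cast_pow]
  refine pow_ne_zero _ fun h0 => ?_
  have h1 : ringChar K ∣ ringChar F := (ringChar.spec K _).1 h0
  rcases (Nat.dvd_prime hp).1 h1 with h2 | h2
  · exact CharP.ringChar_ne_one h2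
  · exact h h2

variable (ψ : AddChar F K) (hψ : ψ.IsPrimitive)

include hψ in
theorem sum_char_dot {w : Fin m → F} (hw : w ≠ 0) : ∑ v : Fin m → F, ψ (v ⬝ᵥ w) = 0 := by
  classical
  let χ : AddChar (Fin m → F) K := ψ.compAddMonoidHom
    { toFun := fun v => v ⬝ᵥ w, map_zero' := zero_dotProduct w, map_add' := fun a b => add_dotProduct a b w }
  refine AddChar.sum_eq_zero_of_ne_one (ψ := χ) fun h => ?_
  obtain ⟨i, hi⟩ : ∃ i, w i ≠ 0 := Function.ne_iff.1 hw
  apply hψ hi
  ext a
  have h1 := congrArg (fun φ : AddChar (Fin m → F) K => φ (Pi.single i a)) h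
  simpa [χ, mul_comm] using h1

variable (τ : (Fin m → F) → Module.End K V)

/-- The projection to the eigenspace of the character `v ↦ ψ (v ⬝ᵥ w)`. -/
noncomputable def eigProj (w : Fin m → F) : Module.End K V :=
  (Fintype.card (Fin m → F) : K)⁻¹ • ∑ v : Fin m → F, ψ (-(v ⬝ᵥ w)) • τ v

variable (h0 : τ 0 = 1) (hadd : ∀ a b, τ (a + b) = τ a * τ b)
  (hK : (Fintype.card F : K) ≠ 0)

include hK in
theorem card_fun_ne_zero : (Fintype.card (Fin m → F) : K) ≠ 0 := by
  simpa using pow_ne_zero m hK

include hadd in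
theorem mul_eigProj (a w : Fin m → F) : τ a * eigProj ψ τ w = ψ (a ⬝ᵥ w) • eigProj ψ τ w := by
  simp only [eigProj, mul_smul_comm, Finset.mul_sum, ← hadd, smul_smul, Finset.smul_sum]
  refine Fintype.sum_equiv (Equiv.addLeft a) _ _ fun v => ?_
  simp only [Equiv.coe_addLeft]
  congr 1
  rw [add_dotProduct, neg_add, AddChar.map_add_eq_mul]
  calc (Fintype.card (Fin m → F) : K)⁻¹ * ψ (-(v ⬝ᵥ w))
      = (Fintype.card (Fin m → F) : K)⁻¹ * (ψ (a ⬝ᵥ w + -(a ⬝ᵥ w)) * ψ (-(v ⬝ᵥ w))) := by
        rw [add_neg_cancel, AddChar.map_zero_eq_one, one_mul]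
    _ = _ := by rw [AddChar.map_add_eq_mul]; ring

open Classical in
include hψ hadd hK in
theorem eigProj_mul (w w' : Fin m → F) :
    eigProj ψ τ w * eigProj ψ τ w' = if w = w' then eigProj ψ τ w' else 0 := by
  classical
  conv_lhs => arg 1; unfold eigProj
  simp only [smul_mul_assoc, Finset.sum_mul, mul_eigProj ψ τ hadd, smul_smul, ← Finset.sum_smul]
  have e : ∀ v : Fin m → F, ψ (-(v ⬝ᵥ w)) * ψ (v ⬝ᵥ w') = ψ (v ⬝ᵥ (w' - w)) := fun v => by
    rw [← AddChar.map_add_eq_mul, dotProduct_sub, sub_eq_neg_add]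
  simp only [e]
  by_cases h : w = w'
  · subst h
    simp [inv_mul_cancel₀ (pow_ne_zero m hK)]
  · rw [if_neg h, sum_char_dot ψ hψ (sub_ne_zero.2 (Ne.symm h)), mul_zero, zero_smul]

include hψ h0 hK in
theorem sum_eigProj : ∑ w : Fin m → F, eigProj ψ τ w = 1 := by
  classical
  simp only [eigProj, ← Finset.smul_sum]
  rw [Finset.sum_comm]
  simp only [← Finset.sum_smul]
  rw [Finset.sum_eq_single (0 : Fin m → F)]
  · simp [h0, smul_smul, inv_mul_cancel₀ (pow_ne_zero m hK)]
  · intro v _ hv
    have h := sum_char_dot ψ hψ (neg_ne_zero.2 hv)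
    rw [show ∑ w : Fin m → F, ψ (-(v ⬝ᵥ w)) = 0 by
      simpa [dotProduct_comm _ (-v), neg_dotProduct] using h, zero_smul]
  · simp

include hψ h0 hadd hK in
theorem eq_sum_eigProj (v : Fin m → F) : τ v = ∑ w, ψ (v ⬝ᵥ w) • eigProj ψ τ w := by
  conv_lhs => rw [← mul_one (τ v), ← sum_eigProj ψ hψ τ h0 hK, Finset.mul_sum]
  exact Finset.sum_congr rfl fun w _ => mul_eigProj ψ τ hadd v w

theorem mul_eigProj_of_conj {g : Module.End K V} {f : (Fin m → F) → (Fin m → F)}
    (hf : Function.Bijective f) (hg : ∀ v, g * τ v = τ (f v) * g) {w w' : Fin m → F}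
    (hw : ∀ v, f v ⬝ᵥ w' = v ⬝ᵥ w) : g * eigProj ψ τ w = eigProj ψ τ w' * g := by
  simp only [eigProj, mul_smul_comm, smul_mul_assoc, Finset.mul_sum, Finset.sum_mul]
  congr 1
  refine Fintype.sum_bijective f hf _ _ fun v => ?_
  rw [hw, hg]

/-- Orthogonal idempotents adding to one split the dimension. -/
theorem finrank_eq_sum_range [FiniteDimensional K V] {ι : Type*} [Fintype ι] [DecidableEq ι]
    (e : ι → Module.End K V) (he : ∀ i j, e i * e j = if i = j then e j else 0)
    (hsum : ∑ i, e i = 1) : finrank K V = ∑ i, finrank K (LinearMap.range (e i)) := by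
  let f : V ≃ₗ[K] ((i : ι) → LinearMap.range (e i)) :=
    LinearEquiv.ofBijective (LinearMap.pi fun i => (e i).rangeRestrict) ⟨fun x y h => by
      have hx : ∀ i, e i x = e i y := fun i => congrArg Subtype.val (congrFun h i)
      have h1 := congrArg (fun T : Module.End K V => T x) hsum
      have h2 := congrArg (fun T : Module.End K V => T y) hsum
      simp only [LinearMap.sum_apply, Module.End.one_apply] at h1 h2
      rw [← h1, ← h2]
      exact Finset.sum_congr rfl fun i _ => hx i, fun z => by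
      refine ⟨∑ j, (z j : V), ?_⟩
      funext i
      apply Subtype.ext
      show e i (∑ j, (z j : V)) = z i
      rw [map_sum, Finset.sum_eq_single i]
      · obtain ⟨y, hy⟩ := (z i).2
        rw [← hy, ← Module.End.mul_apply, he, if_pos rfl]
      · intro j _ hj
        obtain ⟨y, hy⟩ := (z j).2
        rw [← hy, ← Module.End.mul_apply, he, if_neg hj.symm]
        rfl
      · simp⟩
  rw [f.finrank_eq, Module.finrank_pi_fintype]

/-- An element of the commutant of a rank one idempotent acts on it by its trace. -/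
theorem mul_eq_trace_smul [FiniteDimensional K V] {E T : Module.End K V} (hE : E * E = E)
    (h1 : finrank K (LinearMap.range E) = 1) (hT : T * E = E * T) :
    T * E = LinearMap.trace K V (T * E) • E := by
  obtain ⟨⟨y, hy⟩, hy0, hspan⟩ := finrank_eq_one_iff'.1 h1
  have hyE : E y = y := by
    obtain ⟨x, rfl⟩ := hy
    rw [← Module.End.mul_apply, hE]
  have hmem : T y ∈ LinearMap.range E := ⟨T y, by
    conv_rhs => rw [← hyE, ← Module.End.mul_apply, hT, Module.End.mul_apply]⟩
  obtain ⟨c, hc⟩ := hspan ⟨T y, hmem⟩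
  have hc' : c • y = T y := congrArg Subtype.val hc
  have hTE : T * E = c • E := LinearMap.ext fun x => by
    obtain ⟨d, hd⟩ := hspan ⟨E x, x, rfl⟩
    have hd' : d • y = E x := congrArg Subtype.val hd
    rw [Module.End.mul_apply, LinearMap.smul_apply, ← hd', map_smul, ← hc', smul_comm]
  have htr : LinearMap.trace K V E = 1 := by
    have hp : LinearMap.IsProj (LinearMap.range E) E :=
      ⟨fun x => ⟨x, rfl⟩, fun x hx => by
        obtain ⟨z, rfl⟩ := hx
        rw [← Module.End.mul_apply, hE]⟩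
    rw [hp.trace, h1, Nat.cast_one]
  rw [hTE, map_smul, htr, smul_eq_mul, mul_one]

theorem trace_mul_eq_zero [FiniteDimensional K V] {E E' T : Module.End K V} (hE : E * E = E)
    (hT : T * E = E' * T) (h : E * E' = 0) : LinearMap.trace K V (T * E) = 0 := by
  conv_lhs => rw [← hE, ← mul_assoc, LinearMap.trace_mul_comm, hT, ← mul_assoc, h, zero_mul]
  simp

end CfsgLib.LinDeg
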