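import Cfsg.Agent.Lib.GLClass.Special
import Cfsg.Agent.Lib.SLGen.Criterion

/-!
The mirabolic subgroup of `SL_{m+1}` and `GL_{m+1}` in block form, and the class of transvections.
-/

set_option autoImplicit false

namespace CfsgLib.LinDeg

open Matrix

variable {F : Type*} [Field F] {m : ℕ}

/-- `Unit ⊕ Fin m ≃ Fin (m + 1)`, the first index being `0`. -/
def blockEquiv (m : ℕ) : Unit ⊕ Fin m ≃ Fin (m + 1) where
  toFun := Sum.elim (fun _ => 0) Fin.succ
  invFun := Fin.cases (.inl ()) .inr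
  left_inv := by rintro (⟨⟩ | i) <;> simp
  right_inv := by intro i; induction i using Fin.cases <;> simp

/-- Block matrices as matrices on `Fin (m + 1)`. -/
def bl : Matrix (Unit ⊕ Fin m) (Unit ⊕ Fin m) F ≃ₐ[F] Matrix (Fin (m + 1)) (Fin (m + 1)) F :=
  Matrix.reindexAlgEquiv F F (blockEquiv m)

theorem det_bl (A : Matrix (Unit ⊕ Fin m) (Unit ⊕ Fin m) F) : (bl A).det = A.det :=
  Matrix.det_reindexAlgEquiv F F (blockEquiv m) A

/-- The row `v`. -/
def row1 (v : Fin m → F) : Matrix Unit (Fin m) F := Matrix.of fun _ j => v j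

/-- The `1 × 1` block. -/
def cor1 (e : F) : Matrix Unit Unit F := Matrix.of fun _ _ => e

theorem cor1_one : cor1 (1 : F) = 1 := by ext a b; simp [cor1]

theorem cor1_mul (a b : F) : cor1 a * cor1 b = cor1 (a * b) := by
  ext i j; simp [cor1, Matrix.mul_apply]

theorem det_cor1 (e : F) : (cor1 e).det = e := by simp [cor1]

theorem cor1_mul_row1 (e : F) (v : Fin m → F) : cor1 e * row1 v = row1 (e • v) := by
  ext i j; simp [cor1, row1, Matrix.mul_apply]

theorem row1_mul (v : Fin m → F) (M : Matrix (Fin m) (Fin m) F) : row1 v * M = row1 (v ᵥ* M) := by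
  ext i j; simp [row1, Matrix.mul_apply, vecMul, dotProduct]

theorem row1_add (v w : Fin m → F) : row1 v + row1 w = row1 (v + w) := by ext i j; simp [row1]

theorem row1_zero : row1 (0 : Fin m → F) = 0 := by ext i j; simp [row1]

/-- The row transvection matrix. -/
def uMat (v : Fin m → F) : Matrix (Fin (m + 1)) (Fin (m + 1)) F := bl (fromBlocks 1 (row1 v) 0 1)

/-- The Levi matrix `diag(e, M)`. -/
def levMat (e : F) (M : Matrix (Fin m) (Fin m) F) : Matrix (Fin (m + 1)) (Fin (m + 1)) F :=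
  bl (fromBlocks (cor1 e) 0 0 M)

theorem uMat_zero : uMat (0 : Fin m → F) = 1 := by
  rw [uMat, row1_zero, fromBlocks_one, map_one]

theorem uMat_add (v w : Fin m → F) : uMat (v + w) = uMat v * uMat w := by
  rw [uMat, uMat, uMat, ← map_mul, fromBlocks_multiply]
  simp [row1_add, add_comm]

theorem det_uMat (v : Fin m → F) : (uMat v).det = 1 := by simp [uMat, det_bl]

theorem levMat_one : levMat (1 : F) (1 : Matrix (Fin m) (Fin m) F) = 1 := by
  rw [levMat, cor1_one, fromBlocks_one, map_one]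

theorem levMat_mul (a b : F) (A B : Matrix (Fin m) (Fin m) F) :
    levMat a A * levMat b B = levMat (a * b) (A * B) := by
  rw [levMat, levMat, levMat, ← map_mul, fromBlocks_multiply]
  simp [cor1_mul]

theorem det_levMat (e : F) (M : Matrix (Fin m) (Fin m) F) : (levMat e M).det = e * M.det := by
  rw [levMat, det_bl, det_fromBlocks_zero₁₂, det_cor1]

theorem levMat_mul_uMat (e : F) (M N : Matrix (Fin m) (Fin m) F) (h : N * M = 1) (v : Fin m → F) :
    levMat e M * uMat v = uMat (e • (v ᵥ* N)) * levMat e M := by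
  rw [levMat, uMat, uMat, ← map_mul, ← map_mul, fromBlocks_multiply, fromBlocks_multiply]
  simp [cor1_mul_row1, row1_mul, Matrix.smul_vecMul, vecMul_vecMul, h]

/-- `uMat` into `SL`. -/
def uSL (v : Fin m → F) : Matrix.SpecialLinearGroup (Fin (m + 1)) F := ⟨uMat v, det_uMat v⟩

theorem uSL_zero : uSL (0 : Fin m → F) = 1 := Subtype.ext uMat_zero

theorem uSL_add (v w : Fin m → F) : uSL (v + w) = uSL v * uSL w := Subtype.ext (uMat_add v w)

/-- The Levi complement inside `SL`. -/
def levSL : GL (Fin m) F →* Matrix.SpecialLinearGroup (Fin (m + 1)) F where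
  toFun M := ⟨levMat (M.1.det)⁻¹ M.1, by
    rw [det_levMat, inv_mul_cancel₀]
    exact (Matrix.isUnit_iff_isUnit_det _).1 M.isUnit |>.ne_zero⟩
  map_one' := Subtype.ext (by
    show levMat ((1 : Matrix (Fin m) (Fin m) F).det)⁻¹ 1 = _
    rw [det_one, inv_one, levMat_one]; rfl)
  map_mul' A B := Subtype.ext (by
    show levMat ((A * B : GL (Fin m) F).1.det)⁻¹ (A.1 * B.1) = _
    rw [Units.val_mul, det_mul, _root_.mul_inv, ← levMat_mul]; rfl)

theorem levSL_mul_uSL (M : GL (Fin m) F) (v : Fin m → F) :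
    levSL M * uSL v = uSL ((M.1.det)⁻¹ • (v ᵥ* (M⁻¹).1)) * levSL M :=
  Subtype.ext (levMat_mul_uMat _ _ _ (Units.inv_mul M) v)

/-- The scalar on the distinguished line, in `GL`. -/
def corGL : Fˣ →* GL (Fin (m + 1)) F where
  toFun e := ⟨levMat (e : F) 1, levMat (↑e⁻¹ : F) 1,
    by rw [levMat_mul, one_mul, Units.mul_inv, levMat_one],
    by rw [levMat_mul, one_mul, Units.inv_mul, levMat_one]⟩
  map_one' := Units.ext (by simp [levMat_one])
  map_mul' a b := Units.ext (by simp [levMat_mul])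

theorem corGL_mul_uSL (e : Fˣ) (v : Fin m → F) :
    corGL e * Matrix.SpecialLinearGroup.toGL (uSL v) =
      Matrix.SpecialLinearGroup.toGL (uSL ((e : F) • v)) * corGL e :=
  Units.ext (by
    show levMat (e : F) 1 * uMat v = uMat ((e : F) • v) * levMat (e : F) 1
    rw [levMat_mul_uMat (e : F) 1 1 (one_mul 1), vecMul_one])

theorem corGL_comm_levSL (e : Fˣ) (M : GL (Fin m) F) :
    corGL e * Matrix.SpecialLinearGroup.toGL (levSL M) =
      Matrix.SpecialLinearGroup.toGL (levSL M) * corGL e :=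
  Units.ext (by
    show levMat (e : F) 1 * levMat _ M.1 = levMat _ M.1 * levMat (e : F) 1
    rw [levMat_mul, levMat_mul, one_mul, mul_one, mul_comm])

/-- A transvection `1 + u φ` as an element of `GL`. -/
def tGL {n : ℕ} (u φ : Fin n → F) (h : φ ⬝ᵥ u = 0) : GL (Fin n) F :=
  ⟨1 + vecMulVec u φ, 1 - vecMulVec u φ,
    by rw [add_mul, one_mul, mul_sub, mul_one, vecMulVec_mul_vecMulVec, h]; simp,
    by rw [sub_mul, one_mul, mul_add, mul_one, vecMulVec_mul_vecMulVec, h]; simp⟩

theorem det_tGL {n : ℕ} (u φ : Fin n → F) (h : φ ⬝ᵥ u = 0) : (tGL u φ h).1.det = 1 := by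
  show (1 + vecMulVec u φ).det = 1
  rw [vecMulVec_eq Unit, det_one_add_replicateCol_mul_replicateRow, h, add_zero]

theorem tGL_mulVec {n : ℕ} (u φ : Fin n → F) (h : φ ⬝ᵥ u = 0) (w : Fin n → F) :
    (tGL u φ h).1 *ᵥ w = w + (φ ⬝ᵥ w) • u := by
  show (1 + vecMulVec u φ) *ᵥ w = _
  rw [add_mulVec, one_mulVec, vecMulVec_mulVec, op_smul_eq_smul]

/-- Transvection matrices. -/
def IsTransv {n : ℕ} (A : Matrix (Fin n) (Fin n) F) : Prop :=
  ∃ p φ : Fin n → F, p ≠ 0 ∧ φ ≠ 0 ∧ φ ⬝ᵥ p = 0 ∧ A = 1 + vecMulVec p φ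

theorem uSL_isTransv {v : Fin m → F} (hv : v ≠ 0) : IsTransv (uSL v).1 := by
  refine ⟨Pi.single 0 1, fun j => Fin.cases 0 v j, by simp, fun h => hv (funext fun i => ?_), by simp, ?_⟩
  · simpa using congrFun h i.succ
  · show uMat v = _
    ext i j
    induction i using Fin.cases <;> induction j using Fin.cases <;>
      simp [uMat, bl, blockEquiv, row1, vecMulVec_apply, Matrix.one_apply] <;>
      exact (Fin.succ_ne_zero _).symm

theorem levSL_isTransv {u φ : Fin m → F} (h : φ ⬝ᵥ u = 0) (hu : u ≠ 0) (hφ : φ ≠ 0) :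
    IsTransv (levSL (tGL u φ h)).1 := by
  refine ⟨fun j => Fin.cases 0 u j, fun j => Fin.cases 0 φ j, fun e => hu (funext fun i => ?_),
    fun e => hφ (funext fun i => ?_), ?_, ?_⟩
  · simpa using congrFun e i.succ
  · simpa using congrFun e i.succ
  · simpa [dotProduct, Fin.sum_univ_succ] using h
  · show levMat _ _ = _
    rw [det_tGL, inv_one]
    ext i j
    induction i using Fin.cases <;> induction j using Fin.cases <;>
      simp [levMat, cor1, bl, blockEquiv, tGL, vecMulVec_apply, Matrix.one_apply] <;>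
      exact (Fin.succ_ne_zero _).symm

theorem IsTransv.isConj_corner {n : ℕ} {A : Matrix (Fin n) (Fin n) F} (hA : IsTransv A) :
    IsConj A (1 + GLClass.corner n 1 F) := by
  obtain ⟨p, φ, hp, hφ, hpφ, rfl⟩ := hA
  have hr : (vecMulVec p φ).rank = 1 := by
    refine le_antisymm (rank_vecMulVec_le p φ) ?_
    rw [Nat.one_le_iff_ne_zero]
    intro h
    rw [Matrix.rank, Submodule.finrank_eq_zero, LinearMap.range_eq_bot] at h
    obtain ⟨i, hi⟩ := Function.ne_iff.1 hp
    obtain ⟨j, hj⟩ := Function.ne_iff.1 hφ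
    have := congrArg (fun f => (f (Pi.single j 1)) i) h
    simp [vecMulVec_apply] at this
    rcases this with h' | h'
    · exact hi h'
    · exact hj h'
  have h := GLClass.isConj_corner (A := 1 + vecMulVec p φ)
    (by rw [add_sub_cancel_left, vecMulVec_mul_vecMulVec, hpφ]; simp)
  rwa [add_sub_cancel_left, hr] at h

theorem IsTransv.isConj {n : ℕ} (hn : 3 ≤ n) {a b : Matrix.SpecialLinearGroup (Fin n) F}
    (ha : IsTransv a.1) (hb : IsTransv b.1) : IsConj a b := by
  refine GLClass.sl_isConj ha.isConj_corner hb.isConj_corner fun d hd => ?_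
  refine ⟨diagonal (Function.update 1 ⟨1, by omega⟩ d), ?_, by
    rw [det_diagonal, Finset.prod_update_of_mem (Finset.mem_univ _)]; simp⟩
  refine GLClass.diagonal_commute_one_add _ _ fun i j h => ?_
  simp only [GLClass.corner, of_apply, ne_eq, ite_eq_right_iff, one_ne_zero, imp_false,
    not_not] at h
  rw [Function.update_of_ne, Function.update_of_ne]
  · rfl
  · intro e; rw [e] at h; simp at h
  · intro e; rw [e] at h; simp at h; omega

theorem IsTransv.conj {n : ℕ} {A : Matrix (Fin n) (Fin n) F} (hA : IsTransv A)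
    (g : GL (Fin n) F) : IsTransv (g.1 * A * (g⁻¹).1) := by
  obtain ⟨p, φ, hp, hφ, hpφ, rfl⟩ := hA
  refine ⟨g.1 *ᵥ p, φ ᵥ* (g⁻¹).1, fun h => hp ?_, fun h => hφ ?_, ?_, ?_⟩
  · have := congrArg ((g⁻¹).1 *ᵥ ·) h
    simpa using this
  · have := congrArg (· ᵥ* g.1) h
    simpa using this
  · rw [← dotProduct_mulVec, mulVec_mulVec, Units.inv_mul, one_mulVec, hpφ]
  · rw [mul_add, mul_one, add_mul, Units.mul_inv, mul_vecMulVec, vecMulVec_mul]

theorem exists_subring_gen [Fintype F] : ∃ ω : F, Subring.closure ({ω} : Set F) = ⊤ := by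
  obtain ⟨g, hg⟩ := IsCyclic.exists_monoid_generator (α := Fˣ)
  refine ⟨g, eq_top_iff.2 fun x _ => ?_⟩
  by_cases hx : x = 0
  · rw [hx]; exact Subring.zero_mem _
  · obtain ⟨k, hk⟩ := (Submonoid.mem_powers_iff _ _).1 (hg (Units.mk0 x hx))
    have h : (g : F) ^ k = x := by rw [← Units.val_pow_eq_pow_val, hk]; rfl
    rw [← h]
    exact Subring.pow_mem _ (Subring.subset_closure (Set.mem_singleton (g : F))) k

/-- A normal subgroup of `SL_n` containing a transvection is everything. -/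
theorem eq_top_of_transv [Fintype F] {n : ℕ} (hn : 3 ≤ n)
    (H : Subgroup (Matrix.SpecialLinearGroup (Fin n) F)) [hH : H.Normal]
    {a : Matrix.SpecialLinearGroup (Fin n) F} (ha : IsTransv a.1) (haH : a ∈ H) : H = ⊤ := by
  have hmem : ∀ {i j : Fin n} {t : F}, i ≠ j → t ≠ 0 → SLGen.XMem H i j t := by
    intro i j t hij ht
    have hd : AutPSL.ev j ⬝ᵥ (t • (AutPSL.ev i : Fin n → F)) = 0 := by
      rw [dotProduct_smul, AutPSL.ev_dot hij, smul_zero]
    refine ⟨hd, AutPSL.tv _ _ hd, ?_, rfl⟩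
    have hb : IsTransv (AutPSL.tv (t • (AutPSL.ev i : Fin n → F)) (AutPSL.ev j) hd).1 :=
      ⟨_, _, smul_ne_zero ht (AutPSL.ev_ne_zero i), AutPSL.ev_ne_zero j, hd, rfl⟩
    obtain ⟨c, hc⟩ := isConj_iff.1 (IsTransv.isConj hn ha hb)
    rw [← hc]
    exact hH.conj_mem a haH c
  obtain ⟨ω, hω⟩ := exists_subring_gen (F := F)
  by_cases h0 : ω = 0
  · refine SLGen.eq_top_of_xmem hn (fun i j hij => hmem hij one_ne_zero) (ω := 1) ?_
      (a := ⟨0, by omega⟩) (b := ⟨1, by omega⟩) (by simp) (hmem (by simp) one_ne_zero)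
    rw [eq_top_iff, ← hω, Subring.closure_le, Set.singleton_subset_iff, h0]
    exact Subring.zero_mem _
  · exact SLGen.eq_top_of_xmem hn (fun i j hij => hmem hij one_ne_zero) hω
      (a := ⟨0, by omega⟩) (b := ⟨1, by omega⟩) (by simp) (hmem (by simp) h0)

theorem card_hyperplane [Fintype F] {n : ℕ} {p : Fin n → F} (hp : p ≠ 0) :
    Nat.card {φ : Fin n → F // φ ⬝ᵥ p = 0} * Fintype.card F = Fintype.card F ^ n := by
  classical
  let f : (Fin n → F) →+ F :=
    { toFun := fun φ => φ ⬝ᵥ p, map_zero' := zero_dotProduct p, map_add' := fun a b => add_dotProduct a b p }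
  obtain ⟨i, hi⟩ := Function.ne_iff.1 hp
  have hf : Function.Surjective f := fun c => ⟨Pi.single i (c / p i), by simp [f, div_mul_cancel₀ c hi]⟩
  have h := AddSubgroup.card_eq_card_quotient_mul_card_addSubgroup f.ker
  rw [Nat.card_congr (QuotientAddGroup.quotientKerEquivOfSurjective f hf).toEquiv, Nat.card_fun,
    Nat.card_fin, Nat.card_eq_fintype_card (α := F)] at h
  rw [h, mul_comm]
  rfl

theorem card_isTransv [Fintype F] {n : ℕ} (hn : 2 ≤ n) :
    Nat.card {A : Matrix (Fin n) (Fin n) F // IsTransv A} * (Fintype.card F - 1) =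
      (Fintype.card F ^ n - 1) * (Fintype.card F ^ (n - 1) - 1) := by
  classical
  set q := Fintype.card F with hq
  let C := {A : Matrix (Fin n) (Fin n) F // IsTransv A}
  let T := Σ p : {p : Fin n → F // p ≠ 0}, {φ : Fin n → F // φ ≠ 0 ∧ φ ⬝ᵥ p.1 = 0}
  have hrep : ∀ A : C, ∃ p φ : Fin n → F, p ≠ 0 ∧ φ ≠ 0 ∧ φ ⬝ᵥ p = 0 ∧ A.1 = 1 + vecMulVec p φ :=
    fun A => A.2
  choose P Φ hP hΦ hPΦ hA using hrep
  let f : C × Fˣ → T := fun x => ⟨⟨(x.2 : F) • P x.1, smul_ne_zero x.2.ne_zero (hP x.1)⟩,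
    ⟨((x.2 : F))⁻¹ • Φ x.1, smul_ne_zero (inv_ne_zero x.2.ne_zero) (hΦ x.1), by
      rw [smul_dotProduct, dotProduct_smul, hPΦ, smul_zero, smul_zero]⟩⟩
  have hval : ∀ x : C × Fˣ, (1 : Matrix (Fin n) (Fin n) F) + vecMulVec (f x).1.1 (f x).2.1 = x.1.1 := by
    intro x
    simp only [f]
    rw [smul_vecMulVec, vecMulVec_smul, smul_smul, mul_inv_cancel₀ x.2.ne_zero, one_smul, ← hA]
  have hbij : Function.Bijective f := by
    refine ⟨fun x y h => ?_, fun t => ?_⟩
    · have h1 : x.1 = y.1 := Subtype.ext (by rw [← hval x, ← hval y, h])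
      have h2 := congrArg (fun t : T => t.1.1) h
      simp only [f, h1] at h2
      exact Prod.ext h1 (Units.ext (smul_left_injective F (hP y.1) h2))
    · obtain ⟨⟨p, hp⟩, φ, hφ, hpφ⟩ := t
      set A : C := ⟨1 + vecMulVec p φ, p, φ, hp, hφ, hpφ, rfl⟩ with hA'
      have he : vecMulVec p φ = vecMulVec (P A) (Φ A) := add_left_cancel (hA A)
      obtain ⟨i, hi⟩ := Function.ne_iff.1 (hP A)
      obtain ⟨j, hj⟩ := Function.ne_iff.1 hφ
      obtain ⟨k, hk⟩ := Function.ne_iff.1 hp
      simp only [Pi.zero_apply] at hi hj hk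
      have e : ∀ a b, p a * φ b = P A a * Φ A b := fun a b => congrFun (congrFun he a) b
      have hc : Φ A j / φ j ≠ 0 := by
        refine div_ne_zero (fun h0 => ?_) hj
        have := e k j
        rw [h0, mul_zero] at this
        rcases mul_eq_zero.1 this with h | h
        · exact hk h
        · exact hj h
      refine ⟨(A, Units.mk0 _ hc), ?_⟩
      have h1 : (Φ A j / φ j) • P A = p := by
        funext a
        have := e a j
        simp only [Pi.smul_apply, smul_eq_mul]
        field_simp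
        linear_combination -this
      refine Sigma.subtype_ext (Subtype.ext (by simpa [f] using h1)) ?_
      funext b
      have := e k b
      rw [← congrFun h1 k] at this
      simp only [Pi.smul_apply, smul_eq_mul] at this
      simp only [f, Pi.smul_apply, smul_eq_mul, Units.val_mk0]
      have hP0 : P A k ≠ 0 := fun h0 => by
        have h2 := congrFun h1 k
        simp [h0] at h2
        exact hk h2.symm
      have hΦj : Φ A j ≠ 0 := (div_ne_zero_iff.1 hc).1
      apply mul_left_cancel₀ (mul_ne_zero hP0 hc)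
      field_simp
      field_simp at this
      linear_combination -this
  have hT : Nat.card T = (q ^ n - 1) * (q ^ (n - 1) - 1) := by
    have h1 : ∀ p : {p : Fin n → F // p ≠ 0},
        Nat.card {φ : Fin n → F // φ ≠ 0 ∧ φ ⬝ᵥ p.1 = 0} = q ^ (n - 1) - 1 := by
      intro p
      have h := card_hyperplane p.2
      rw [← hq] at h
      have h' : Nat.card {φ : Fin n → F // φ ⬝ᵥ p.1 = 0} = q ^ (n - 1) := by
        refine Nat.eq_of_mul_eq_mul_right (Fintype.card_pos (α := F)) ?_
        rw [← hq, h, ← pow_succ]; congr 1; omega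
      rw [← h', Nat.card_eq_fintype_card, Nat.card_eq_fintype_card, Fintype.card_subtype,
        Fintype.card_subtype]
      have hs : (Finset.univ.filter fun φ : Fin n → F => φ ≠ 0 ∧ φ ⬝ᵥ p.1 = 0) =
          (Finset.univ.filter fun φ : Fin n → F => φ ⬝ᵥ p.1 = 0).erase 0 := by ext; simp
      rw [hs, Finset.card_erase_of_mem (by simp)]
    rw [Nat.card_sigma, Finset.sum_congr rfl fun p _ => h1 p, Finset.sum_const, Finset.card_univ,
      smul_eq_mul, Fintype.card_subtype_compl, Fintype.card_subtype_eq, Fintype.card_fun,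
      Fintype.card_fin]
  rw [← hT, ← Nat.card_eq_of_bijective f hbij, Nat.card_prod, Nat.card_units,
    Nat.card_eq_fintype_card (α := F)]

end CfsgLib.LinDeg
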