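import Cfsg.Agent.Lib.LinDeg.Spectral
import Cfsg.Agent.Lib.LinDeg.Block

/-!
Representations of a group containing the mirabolic subgroup `F^m ⋊ GL_m(F)`.
-/

set_option autoImplicit false

namespace CfsgLib.LinDeg

open Module Matrix

/-- An orbit of characters bounds the degree. -/
theorem card_sub_one_le_finrank {F : Type*} [Field F] [Fintype F] {K : Type*} [Field K] {V : Type*}
    [AddCommGroup V] [Module K V] [FiniteDimensional K V] {m : ℕ} (ψ : AddChar F K)
    (hψ : ψ.IsPrimitive) (τ : (Fin m → F) → Module.End K V) (h0 : τ 0 = 1)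
    (hadd : ∀ a b, τ (a + b) = τ a * τ b) (hK : (Fintype.card F : K) ≠ 0) (hne : ∃ v, τ v ≠ 1)
    (htrans : ∀ w w' : Fin m → F, w ≠ 0 → w' ≠ 0 → ∃ g : Module.End K V,
      IsUnit g ∧ g * eigProj ψ τ w = eigProj ψ τ w' * g) :
    Fintype.card F ^ m - 1 ≤ finrank K V := by
  classical
  obtain ⟨w₁, hw₁0, hw₁⟩ : ∃ w, w ≠ 0 ∧ eigProj ψ τ w ≠ 0 := by
    by_contra h
    simp only [not_exists, not_and, not_not] at h
    obtain ⟨v, hv⟩ := hne
    apply hv
    rw [eq_sum_eigProj ψ hψ τ h0 hadd hK v, Finset.sum_eq_single 0]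
    · have hs := sum_eigProj ψ hψ τ h0 hK
      rw [Finset.sum_eq_single 0] at hs
      · rw [dotProduct_zero, AddChar.map_zero_eq_one, one_smul, hs]
      · exact fun w _ hw => h w hw
      · simp
    · intro w _ hw; rw [h w hw, smul_zero]
    · simp
  rw [finrank_eq_sum_range (eigProj ψ τ) (eigProj_mul ψ hψ τ hadd hK) (sum_eigProj ψ hψ τ h0 hK)]
  calc Fintype.card F ^ m - 1 = ∑ w ∈ Finset.univ.erase (0 : Fin m → F), 1 := by simp
    _ ≤ ∑ w ∈ Finset.univ.erase (0 : Fin m → F), finrank K (LinearMap.range (eigProj ψ τ w)) := by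
      refine Finset.sum_le_sum fun w hw => ?_
      rw [Nat.one_le_iff_ne_zero]
      intro h
      rw [Submodule.finrank_eq_zero, LinearMap.range_eq_bot] at h
      obtain ⟨g, hg, he⟩ := htrans w₁ w hw₁0 (Finset.ne_of_mem_erase hw)
      rw [h, zero_mul] at he
      exact hw₁ ((hg.mul_right_eq_zero).1 he)
    _ ≤ _ := Finset.sum_le_sum_of_subset (Finset.erase_subset _ _)

theorem exists_det_one_mulVec {F : Type*} [Field F] {m : ℕ} (hm : 2 ≤ m) {w w' : Fin m → F}
    (hw : w ≠ 0) (hw' : w' ≠ 0) :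
    ∃ M : GL (Fin m) F, M.1.det = 1 ∧ M.1 *ᵥ w = w' := by
  classical
  have key : ∀ {w : Fin m → F}, w ≠ 0 →
      ∃ M : GL (Fin m) F, M.1.det = 1 ∧ M.1 *ᵥ Pi.single ⟨0, by omega⟩ 1 = w := by
    intro w hw
    obtain ⟨i, hi⟩ := Function.ne_iff.1 hw
    simp only [Pi.zero_apply] at hi
    set i0 : Fin m := ⟨0, by omega⟩
    set i1 : Fin m := ⟨1, by omega⟩
    set A : Matrix (Fin m) (Fin m) F :=
      (1 + vecMulVec (w - Pi.single i 1) (Pi.single i 1)) * (Equiv.swap i i0).permMatrix F with hA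
    have hd : A.det ≠ 0 := by
      rw [hA, det_mul, det_permutation]
      refine mul_ne_zero ?_ ?_
      · rw [vecMulVec_eq (ι := Unit), det_one_add_replicateCol_mul_replicateRow]
        simpa using hi
      · rcases Int.units_eq_one_or (Equiv.Perm.sign (Equiv.swap i i0)) with h | h <;> simp [h]
    have hA0 : A *ᵥ Pi.single i0 1 = w := by
      rw [hA, ← mulVec_mulVec, permMatrix_mulVec]
      have e : ((Pi.single i0 (1 : F) : Fin m → F) ∘ Equiv.swap i i0) = Pi.single i 1 := by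
        funext j
        simp only [Function.comp_apply, Pi.single_apply]
        by_cases hj : j = i
        · simp [hj]
        · rw [if_neg hj, if_neg]
          intro h
          apply hj
          have := congrArg (Equiv.swap i i0) h
          simpa using this
      rw [e, add_mulVec, one_mulVec, vecMulVec_mulVec, op_smul_eq_smul]
      simp
    set D : Matrix (Fin m) (Fin m) F := diagonal (Function.update 1 i1 A.det⁻¹) with hD
    have hAD : (A * D).det = 1 := by
      rw [det_mul, hD, det_diagonal, Finset.prod_update_of_mem (Finset.mem_univ _)]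
      simp [mul_inv_cancel₀ hd]
    refine ⟨GeneralLinearGroup.mkOfDetNeZero (A * D) (by rw [hAD]; exact one_ne_zero), hAD, ?_⟩
    show (A * D) *ᵥ _ = w
    rw [← mulVec_mulVec, hD, diagonal_mulVec_single, Function.update_of_ne (by simp [i0, i1]),
      Pi.one_apply, one_mul, hA0]
  obtain ⟨M, hM, hMw⟩ := key hw
  obtain ⟨M', hM', hMw'⟩ := key hw'
  refine ⟨M' * M⁻¹, ?_, ?_⟩
  · have h : M.1.det * (M⁻¹).1.det = 1 := by rw [← det_mul, Units.mul_inv, det_one]
    rw [hM, one_mul] at h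
    rw [Units.val_mul, det_mul, hM', h, one_mul]
  · rw [← hMw, Units.val_mul, mulVec_mulVec, Units.inv_mul_cancel_right, hMw']

/-- A group with a copy of `F^m ⋊ GL_m(F)`. -/
structure Mirab (F : Type*) [Field F] (m : ℕ) (G : Type*) [Group G] where
  /-- The unipotent radical. -/
  u : (Fin m → F) → G
  /-- The Levi complement. -/
  L : GL (Fin m) F →* G
  u_zero : u 0 = 1
  u_add : ∀ a b, u (a + b) = u a * u b
  rel : ∀ (M : GL (Fin m) F) (v : Fin m → F),
    L M * u v = u ((M.1.det)⁻¹ • (v ᵥ* (M⁻¹).1)) * L M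

variable {F : Type*} [Field F] {m : ℕ} {G : Type*} [Group G] (D : Mirab F m G)
  {K : Type*} [Field K] {V : Type*} [AddCommGroup V] [Module K V] (π : G →* Module.End K V)

variable [Fintype F] (ψ : AddChar F K)

/-- The eigen-projections of the radical. -/
noncomputable abbrev Mirab.E (w : Fin m → F) : Module.End K V :=
  eigProj ψ (fun v => π (D.u v)) w

theorem isUnit_map (g : G) : IsUnit (π g) :=
  ⟨⟨π g, π g⁻¹, by rw [← map_mul, mul_inv_cancel, map_one],
    by rw [← map_mul, inv_mul_cancel, map_one]⟩, rfl⟩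

theorem Mirab.tau_add (a b : Fin m → F) :
    (fun v => π (D.u v)) (a + b) = (fun v => π (D.u v)) a * (fun v => π (D.u v)) b := by
  simp [D.u_add]

theorem Mirab.tau_zero : (fun v => π (D.u v)) 0 = 1 := by simp [D.u_zero]

theorem Mirab.lev_mul_E (M : GL (Fin m) F) (w : Fin m → F) :
    π (D.L M) * D.E π ψ w = D.E π ψ (M.1.det • (M.1 *ᵥ w)) * π (D.L M) := by
  have hd : M.1.det ≠ 0 := ((Matrix.isUnit_iff_isUnit_det _).1 M.isUnit).ne_zero
  refine mul_eigProj_of_conj ψ _ (f := fun v => (M.1.det)⁻¹ • (v ᵥ* (M⁻¹).1)) ?_ ?_ ?_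
  · refine Finite.injective_iff_bijective.1 fun a b h => ?_
    have h1 := congrArg (fun v => v ᵥ* M.1) (smul_right_injective (Fin m → F) (inv_ne_zero hd) h)
    simpa using h1
  · intro v; rw [← map_mul, ← map_mul, D.rel]
  · intro v
    rw [smul_dotProduct, dotProduct_smul, ← dotProduct_mulVec, mulVec_mulVec, Units.inv_mul,
      one_mulVec, smul_smul, inv_mul_cancel₀ hd, one_smul]

theorem Mirab.trans (hm : 2 ≤ m) {w w' : Fin m → F} (hw : w ≠ 0) (hw' : w' ≠ 0) :
    ∃ g : Module.End K V, IsUnit g ∧ g * D.E π ψ w = D.E π ψ w' * g := by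
  obtain ⟨M, hM, hMw⟩ := exists_det_one_mulVec hm hw hw'
  refine ⟨π (D.L M), isUnit_map π _, ?_⟩
  rw [D.lev_mul_E, hM, one_smul, hMw]

variable [FiniteDimensional K V] (hψ : ψ.IsPrimitive) (hK : (Fintype.card F : K) ≠ 0)

include hψ hK in
theorem Mirab.lower (hm : 2 ≤ m) (hne : ∃ v, π (D.u v) ≠ 1) :
    Fintype.card F ^ m - 1 ≤ finrank K V :=
  card_sub_one_le_finrank ψ hψ _ (D.tau_zero π) (D.tau_add π) hK hne fun _ _ => D.trans π ψ hm

/-- The multiplicity of the non-trivial characters of the radical. -/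
noncomputable def Mirab.mult : ℕ :=
  finrank K (LinearMap.range (D.E π ψ (fun _ => 1)))

/-- The fixed space of the radical. -/
noncomputable abbrev Mirab.W : Submodule K V := LinearMap.range (D.E π ψ 0)

theorem finrank_range_of_conj {g E E' : Module.End K V} (hg : IsUnit g) (h : g * E = E' * g) :
    finrank K (LinearMap.range E) = finrank K (LinearMap.range E') := by
  obtain ⟨u, rfl⟩ := hg
  let e : V ≃ₗ[K] V := LinearMap.GeneralLinearGroup.toLinearEquiv u
  have h1 : (LinearMap.range E).map (e : V →ₗ[K] V) = LinearMap.range E' := by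
    rw [← LinearMap.range_comp]
    show LinearMap.range ((u : Module.End K V) * E) = _
    rw [h]
    show LinearMap.range (E'.comp (e : V →ₗ[K] V)) = _
    rw [LinearEquiv.range_comp]
  rw [← h1]
  exact (LinearEquiv.finrank_map_eq e _).symm

theorem Mirab.finrank_E (hm : 2 ≤ m) {w : Fin m → F} (hw : w ≠ 0) :
    finrank K (LinearMap.range (D.E π ψ w)) = D.mult π ψ := by
  have h1 : (fun _ => 1 : Fin m → F) ≠ 0 := fun h => one_ne_zero (congrFun h ⟨0, by omega⟩)
  obtain ⟨g, hg, he⟩ := D.trans π ψ hm hw h1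
  exact finrank_range_of_conj hg he

include hψ hK in
theorem Mirab.finrank_eq (hm : 2 ≤ m) :
    finrank K V = finrank K (D.W π ψ) + D.mult π ψ * (Fintype.card F ^ m - 1) := by
  classical
  rw [finrank_eq_sum_range (D.E π ψ) (eigProj_mul ψ hψ (fun v => π (D.u v)) (D.tau_add π) hK)
    (sum_eigProj ψ hψ (fun v => π (D.u v)) (D.tau_zero π) hK),
    ← Finset.add_sum_erase _ _ (Finset.mem_univ (0 : Fin m → F)),
    Finset.sum_congr rfl fun w hw => D.finrank_E π ψ hm (Finset.ne_of_mem_erase hw)]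
  simp [mul_comm]

include hψ hK in
theorem Mirab.mult_pos (hm : 2 ≤ m) (hne : ∃ v, π (D.u v) ≠ 1) : 1 ≤ D.mult π ψ := by
  by_contra h
  obtain ⟨v, hv⟩ := hne
  apply hv
  classical
  have hz : ∀ w, w ≠ 0 → D.E π ψ w = 0 := fun w hw => by
    have := D.finrank_E π ψ hm hw
    rw [show D.mult π ψ = 0 by omega, Submodule.finrank_eq_zero, LinearMap.range_eq_bot] at this
    exact this
  have hs := sum_eigProj ψ hψ (fun v => π (D.u v)) (D.tau_zero π) hK
  rw [Finset.sum_eq_single 0 (fun w _ hw => hz w hw) (by simp)] at hs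
  rw [eq_sum_eigProj ψ hψ (fun v => π (D.u v)) (D.tau_zero π) (D.tau_add π) hK v,
    Finset.sum_eq_single 0 (fun w _ hw => by rw [show eigProj ψ _ w = 0 from hz w hw, smul_zero]) (by simp),
    dotProduct_zero, AddChar.map_zero_eq_one, one_smul]; exact hs

theorem Mirab.mapsTo_W (M : GL (Fin m) F) : ∀ x ∈ D.W π ψ, π (D.L M) x ∈ D.W π ψ := by
  rintro _ ⟨y, rfl⟩
  refine ⟨π (D.L M) y, ?_⟩
  have h := D.lev_mul_E π ψ M 0
  rw [mulVec_zero, smul_zero] at h
  rw [← Module.End.mul_apply, ← Module.End.mul_apply, h]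

/-- The Levi complement acting on the fixed space of the radical. -/
noncomputable def Mirab.onW : GL (Fin m) F →* Module.End K (D.W π ψ) where
  toFun M := (π (D.L M)).restrict (D.mapsTo_W π ψ M)
  map_one' := by ext x; simp
  map_mul' A B := by ext x; simp

theorem Mirab.trace_onW (M : GL (Fin m) F) (hψ : ψ.IsPrimitive) (hK : (Fintype.card F : K) ≠ 0) :
    LinearMap.trace K (D.W π ψ) (D.onW π ψ M) =
      LinearMap.trace K V (π (D.L M) * D.E π ψ 0) := by
  classical
  have hE : D.E π ψ 0 * D.E π ψ 0 = D.E π ψ 0 := by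
    rw [eigProj_mul ψ hψ (fun v => π (D.u v)) (D.tau_add π) hK, if_pos rfl]
  have hmaps : ∀ x, (π (D.L M) * D.E π ψ 0) x ∈ D.W π ψ := fun x =>
    D.mapsTo_W π ψ M _ ⟨x, rfl⟩
  rw [← LinearMap.trace_restrict_eq_of_forall_mem _ _ hmaps]
  congr 1
  ext ⟨x, hx⟩
  obtain ⟨y, rfl⟩ := hx
  show π (D.L M) (D.E π ψ 0 y) = π (D.L M) (D.E π ψ 0 (D.E π ψ 0 y))
  rw [← Module.End.mul_apply (D.E π ψ 0) (D.E π ψ 0), hE]

include hψ hK in
theorem Mirab.onW_eq_one_iff (M : GL (Fin m) F) :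
    D.onW π ψ M = 1 ↔ π (D.L M) * D.E π ψ 0 = D.E π ψ 0 := by
  constructor
  · intro h
    refine LinearMap.ext fun x => ?_
    exact congrArg Subtype.val (congrArg (fun T => T ⟨D.E π ψ 0 x, x, rfl⟩) h)
  · intro h
    refine LinearMap.ext fun x => Subtype.ext ?_
    obtain ⟨_, y, rfl⟩ := x
    exact congrArg (fun T => T y) h

/-- The scalar by which an element acts on an eigenline of the radical. -/
noncomputable def Mirab.scal (w : Fin m → F) (g : G) : K :=
  LinearMap.trace K V (π g * D.E π ψ w)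

/-- Elements commuting with an eigen-projection. -/
def Mirab.stab (w : Fin m → F) : Subgroup G where
  carrier := {g | π g * D.E π ψ w = D.E π ψ w * π g}
  mul_mem' {a b} ha hb := by
    simp only [Set.mem_setOf_eq] at *
    rw [map_mul, mul_assoc, hb, ← mul_assoc, ha, mul_assoc]
  one_mem' := by simp
  inv_mem' {a} ha := by
    simp only [Set.mem_setOf_eq] at *
    apply (isUnit_map π a).mul_left_cancel
    rw [← mul_assoc, ← map_mul, mul_inv_cancel, map_one, one_mul, ← mul_assoc, ha, mul_assoc,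
      ← map_mul, mul_inv_cancel, map_one, mul_one]

include hψ hK in
theorem Mirab.mul_E_eq_scal (hm : 2 ≤ m) (ha : D.mult π ψ = 1) {w : Fin m → F} (hw : w ≠ 0) {g : G}
    (hg : g ∈ D.stab π ψ w) : π g * D.E π ψ w = D.scal π ψ w g • D.E π ψ w := by
  classical
  exact mul_eq_trace_smul (by rw [eigProj_mul ψ hψ (fun v => π (D.u v)) (D.tau_add π) hK, if_pos rfl])
    (by rw [D.finrank_E π ψ hm hw, ha]) hg

include hψ hK in
theorem Mirab.trace_E (hm : 2 ≤ m) (ha : D.mult π ψ = 1) {w : Fin m → F} (hw : w ≠ 0) :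
    LinearMap.trace K V (D.E π ψ w) = 1 := by
  classical
  have hp : LinearMap.IsProj (LinearMap.range (D.E π ψ w)) (D.E π ψ w) :=
    ⟨fun x => ⟨x, rfl⟩, fun x hx => by
      obtain ⟨z, rfl⟩ := hx
      rw [← Module.End.mul_apply, eigProj_mul ψ hψ (fun v => π (D.u v)) (D.tau_add π) hK, if_pos rfl]⟩
  rw [hp.trace, D.finrank_E π ψ hm hw, ha, Nat.cast_one]

include hψ hK in
theorem Mirab.exists_scalHom (hm : 2 ≤ m) (ha : D.mult π ψ = 1) {w : Fin m → F} (hw : w ≠ 0) :
    ∃ χ : D.stab π ψ w →* K, ∀ g, χ g = D.scal π ψ w g.1 := by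
  refine ⟨{ toFun := fun g => D.scal π ψ w g.1, map_one' := ?_, map_mul' := fun g h => ?_ },
    fun g => rfl⟩
  · show LinearMap.trace K V (π 1 * _) = 1
    rw [map_one, one_mul, D.trace_E π ψ hψ hK hm ha hw]
  · show LinearMap.trace K V (π (g.1 * h.1) * _) = _
    rw [π.map_mul, mul_assoc, D.mul_E_eq_scal π ψ hψ hK hm ha hw h.2, mul_smul_comm, map_smul,
      smul_eq_mul, mul_comm]
    rfl

include hψ hK in
/-- A commutator acts trivially on the eigenline. -/
theorem Mirab.scal_commutator (hm : 2 ≤ m) (ha : D.mult π ψ = 1) {w : Fin m → F} (hw : w ≠ 0)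
    {g h : G} (hg : g ∈ D.stab π ψ w) (hh : h ∈ D.stab π ψ w) :
    D.scal π ψ w (g * h * g⁻¹ * h⁻¹) = 1 := by
  obtain ⟨χ, hχ⟩ := D.exists_scalHom π ψ hψ hK hm ha hw
  have e : χ (⟨g, hg⟩ * ⟨h, hh⟩ * ⟨g, hg⟩⁻¹ * ⟨h, hh⟩⁻¹) = 1 := by
    simp only [map_mul]
    rw [mul_right_comm (χ ⟨g, hg⟩), ← map_mul χ ⟨g, hg⟩, mul_inv_cancel, map_one, one_mul,
      ← map_mul χ ⟨h, hh⟩, mul_inv_cancel, map_one]
  rw [← e, hχ]
  rfl

include hψ hK in
/-- If `h x h⁻¹ = x y` in the stabiliser then `y` acts trivially on the eigenline. -/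
theorem Mirab.scal_eq_one_of_conj (hm : 2 ≤ m) (ha : D.mult π ψ = 1) {w : Fin m → F} (hw : w ≠ 0)
    {h x y : G} (hh : h ∈ D.stab π ψ w) (hx : x ∈ D.stab π ψ w) (he : h * x * h⁻¹ = x * y) :
    D.scal π ψ w y = 1 := by
  have : y = x⁻¹ * h * x * h⁻¹ := by rw [mul_assoc x⁻¹, mul_assoc x⁻¹, he, inv_mul_cancel_left]
  rw [this]
  simpa using D.scal_commutator π ψ hψ hK hm ha hw (inv_mem hx) hh

theorem Mirab.u_mem_stab (v w : Fin m → F) : D.u v ∈ D.stab π ψ w := by
  show π (D.u v) * _ = _ * π (D.u v)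
  simp only [Mirab.E, eigProj, mul_smul_comm, smul_mul_assoc, Finset.mul_sum, Finset.sum_mul,
    ← map_mul, ← D.u_add, add_comm]

theorem Mirab.L_mem_stab {M : GL (Fin m) F} {w : Fin m → F} (hd : M.1.det = 1)
    (hMw : M.1 *ᵥ w = w) : D.L M ∈ D.stab π ψ w := by
  show π (D.L M) * _ = _
  rw [D.lev_mul_E, hd, one_smul, hMw]

include hψ hK in
theorem Mirab.trace_u (hm : 2 ≤ m) (ha : D.mult π ψ = 1) {v : Fin m → F} (hv : v ≠ 0) :
    LinearMap.trace K V (π (D.u v)) = (finrank K (D.W π ψ) : K) - 1 := by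
  classical
  have hp : LinearMap.IsProj (D.W π ψ) (D.E π ψ 0) :=
    ⟨fun x => ⟨x, rfl⟩, fun x hx => by
      obtain ⟨z, rfl⟩ := hx
      rw [← Module.End.mul_apply, eigProj_mul ψ hψ (fun v => π (D.u v)) (D.tau_add π) hK, if_pos rfl]⟩
  have h := sum_char_dot ψ hψ hv
  simp only [fun w => dotProduct_comm w v] at h
  rw [← Finset.add_sum_erase _ _ (Finset.mem_univ (0 : Fin m → F)), dotProduct_zero,
    AddChar.map_zero_eq_one] at h
  rw [eq_sum_eigProj ψ hψ (fun v => π (D.u v)) (D.tau_zero π) (D.tau_add π) hK v,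
    ← Finset.add_sum_erase _ _ (Finset.mem_univ (0 : Fin m → F)), dotProduct_zero,
    AddChar.map_zero_eq_one, one_smul, map_add, map_sum, hp.trace,
    Finset.sum_congr rfl fun w hw => by
      rw [map_smul, D.trace_E π ψ hψ hK hm ha (Finset.ne_of_mem_erase hw), smul_eq_mul, mul_one]]
  linear_combination h

include hψ hK in
open Classical in
theorem Mirab.trace_uL (hm : 2 ≤ m) (ha : D.mult π ψ = 1) (v : Fin m → F) (M : GL (Fin m) F)
    (hM : M.1.det = 1) :
    LinearMap.trace K V (π (D.u v * D.L M)) = LinearMap.trace K V (π (D.L M) * D.E π ψ 0) +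
      ∑ w ∈ Finset.univ.filter (fun w => M.1 *ᵥ w = w ∧ w ≠ 0),
        ψ (v ⬝ᵥ w) * D.scal π ψ w (D.L M) := by
  set τ := fun v => π (D.u v)
  have hsum := sum_eigProj ψ hψ τ (D.tau_zero π) hK
  conv_lhs => rw [← mul_one (π (D.u v * D.L M)), ← hsum, Finset.mul_sum, map_sum,
    ← Finset.add_sum_erase _ _ (Finset.mem_univ (0 : Fin m → F))]
  have hterm : ∀ w, π (D.L M) * D.E π ψ w = D.E π ψ (M.1 *ᵥ w) * π (D.L M) := fun w => by
    rw [D.lev_mul_E, hM, one_smul]
  have hu : ∀ w, π (D.u v * D.L M) * D.E π ψ w = ψ (v ⬝ᵥ (M.1 *ᵥ w)) • (π (D.L M) * D.E π ψ w) := by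
    intro w
    rw [map_mul, mul_assoc, hterm, ← mul_assoc,
      show π (D.u v) * D.E π ψ (M.1 *ᵥ w) = ψ (v ⬝ᵥ (M.1 *ᵥ w)) • D.E π ψ (M.1 *ᵥ w) from
        mul_eigProj ψ τ (D.tau_add π) v _, smul_mul_assoc]
  congr 1
  · rw [show eigProj ψ τ 0 = D.E π ψ 0 from rfl, hu]
    simp
  · rw [← Finset.sum_subset (s₁ := Finset.univ.filter (fun w => M.1 *ᵥ w = w ∧ w ≠ 0))]
    · refine Finset.sum_congr rfl fun w hw => ?_
      obtain ⟨-, h1, h2⟩ := Finset.mem_filter.1 hw
      rw [show eigProj ψ τ w = D.E π ψ w from rfl, hu, map_smul, h1, smul_eq_mul]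
      rfl
    · intro w hw
      exact Finset.mem_erase.2 ⟨(Finset.mem_filter.1 hw).2.2, Finset.mem_univ _⟩
    · intro w hw hw'
      rw [show eigProj ψ τ w = D.E π ψ w from rfl, hu, map_smul,
        trace_mul_eq_zero (by rw [eigProj_mul ψ hψ τ (D.tau_add π) hK, if_pos rfl]) (hterm w) (by
          rw [eigProj_mul ψ hψ τ (D.tau_add π) hK, if_neg]
          intro h
          exact hw' (Finset.mem_filter.2 ⟨Finset.mem_univ _, h.symm, Finset.ne_of_mem_erase hw⟩)),
        smul_zero]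

include hψ hK in
/-- Sufficient condition for the Levi transvection to act non-trivially on the fixed space. -/
theorem Mirab.onW_ne_one [CharZero K] (hm : 2 ≤ m) (ha : D.mult π ψ = 1) {u φ : Fin m → F}
    (hφu : φ ⬝ᵥ u = 0) {v : Fin m → F} (hv : v ≠ 0)
    (hconj : IsConj (D.u v) (D.L (tGL u φ hφu)))
    (hscal : ∀ w : Fin m → F, w ≠ 0 → (tGL u φ hφu).1 *ᵥ w = w →
      D.scal π ψ w (D.L (tGL u φ hφu)) = 1) :
    D.onW π ψ (tGL u φ hφu) ≠ 1 := by
  classical
  intro h
  obtain ⟨c, hc⟩ := isConj_iff.1 hconj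
  have ht : LinearMap.trace K V (π (D.L (tGL u φ hφu))) = LinearMap.trace K V (π (D.u v)) := by
    rw [← hc, map_mul, LinearMap.trace_mul_comm, ← map_mul, ← mul_assoc, inv_mul_cancel, one_mul]
  have h1 := D.trace_uL π ψ hψ hK hm ha 0 (tGL u φ hφu) (det_tGL u φ hφu)
  rw [D.u_zero, one_mul, ht, D.trace_u π ψ hψ hK hm ha hv,
    (D.onW_eq_one_iff π ψ hψ hK _).1 h] at h1
  have hp : LinearMap.IsProj (D.W π ψ) (D.E π ψ 0) :=
    ⟨fun x => ⟨x, rfl⟩, fun x hx => by
      obtain ⟨z, rfl⟩ := hx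
      rw [← Module.End.mul_apply, eigProj_mul ψ hψ (fun v => π (D.u v)) (D.tau_add π) hK, if_pos rfl]⟩
  rw [hp.trace, Finset.sum_congr rfl fun w hw => by
    rw [hscal w (Finset.mem_filter.1 hw).2.2 (Finset.mem_filter.1 hw).2.1, zero_dotProduct,
      AddChar.map_zero_eq_one, mul_one], Finset.sum_const, nsmul_eq_mul, mul_one] at h1
  have h2 : ((Finset.univ.filter fun w : Fin m → F =>
      (tGL u φ hφu).1 *ᵥ w = w ∧ w ≠ 0).card + 1 : K) = 0 := by linear_combination -h1
  exact Nat.cast_add_one_ne_zero _ h2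

end CfsgLib.LinDeg
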