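import Cfsg.Agent.Lib.LinDeg.Five

/-!
The minimal degree of a non-trivial complex representation of `GL_n` and `SL_n`.
-/

set_option autoImplicit false

namespace CfsgLib.LinDeg

open Module Matrix

variable {F : Type*} [Field F] [Fintype F]

theorem exists_ne_zero_one (h : 3 ≤ Fintype.card F) : ∃ γ : F, γ ≠ 0 ∧ γ ≠ 1 := by
  classical
  by_contra hne
  simp only [not_exists, not_and, not_not] at hne
  have h1 := Finset.card_le_card (show (Finset.univ : Finset F) ⊆ {0, 1} from fun x _ => by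
    by_cases hx : x = 0
    · simp [hx]
    · simp [hne x hx])
  have h2 : ({0, 1} : Finset F).card ≤ 2 := Finset.card_le_two
  rw [Finset.card_univ] at h1
  omega

theorem exists_cube_ne_one (h2 : Fintype.card F ≠ 2) (h4 : Fintype.card F ≠ 4) :
    ∃ α : F, α ≠ 0 ∧ α ^ 3 ≠ 1 := by
  classical
  by_contra hne
  simp only [not_exists, not_and, not_not] at hne
  have hsub : (Finset.univ.erase (0 : F)) ⊆
      (Polynomial.X ^ 3 - Polynomial.C (1 : F)).roots.toFinset := by
    intro x hx
    rw [Multiset.mem_toFinset, Polynomial.mem_roots (Polynomial.X_pow_sub_C_ne_zero (by omega) 1)]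
    simp [hne x (Finset.ne_of_mem_erase hx)]
  have h1 := (Finset.card_le_card hsub).trans ((Multiset.toFinset_card_le _).trans
    (Polynomial.card_roots' _))
  rw [Polynomial.natDegree_X_pow_sub_C, Finset.card_erase_of_mem (Finset.mem_univ _),
    Finset.card_univ] at h1
  have h3 : Fintype.card F = 3 := by have := Fintype.one_lt_card (α := F); omega
  have h5 := hne (-1) (by simp)
  have h20 : (2 : F) = 0 := by linear_combination -h5
  have h30 : (3 : F) = 0 := by
    have h := Nat.cast_card_eq_zero F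
    rw [h3] at h
    exact_mod_cast h
  apply one_ne_zero (α := F)
  linear_combination h30 - h20

theorem xTV_isTransv {m : ℕ} (hm : 2 ≤ m) : IsTransv (xTV (F := F) hm 1).1 :=
  ⟨_, _, by simp, by simp, dot_eq_zero (i0_ne_i1 hm).symm 1, rfl⟩

theorem five_conj_sl (hF : Fintype.card F = 2) :
    IsConj (uSL (Pi.single 2 1 : Fin 4 → F) * levSL (xTV (by omega : 2 ≤ 4) 1))
      (levSL (xTV (F := F) (by omega : 2 ≤ 4) 1 *
        tGL ((1 : F) • Pi.single 3 1) (Pi.single 2 1) (dot_eq_zero (by decide) 1))) := by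
  classical
  have h20 : (1 : F) + 1 = 0 := by
    have h := Nat.cast_card_eq_zero F
    rw [hF] at h
    push_cast at h
    linear_combination h
  let σ : Equiv.Perm (Fin 5) := Equiv.swap 0 4
  let P : Matrix.SpecialLinearGroup (Fin 5) F := ⟨σ.permMatrix F, by
    rw [det_permutation, Equiv.Perm.sign_swap (by decide)]
    push_cast
    linear_combination -h20⟩
  refine isConj_iff.2 ⟨P, mul_inv_eq_iff_eq_mul.2 (Subtype.ext ?_)⟩
  show σ.permMatrix F * (uMat (Pi.single 2 1) * levMat ((xTV (by omega : 2 ≤ 4) (1 : F)).1.det)⁻¹ _) =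
    levMat ((_ : Matrix (Fin 4) (Fin 4) F).det)⁻¹ _ * σ.permMatrix F
  simp only [Units.val_mul, det_mul, det_xTV, det_tGL, one_mul, inv_one]
  have b0 : (blockEquiv 4).symm 0 = .inl () := rfl
  have b1 : (blockEquiv 4).symm 1 = .inr 0 := rfl
  have b2 : (blockEquiv 4).symm 2 = .inr 1 := rfl
  have b3 : (blockEquiv 4).symm 3 = .inr 2 := rfl
  have b4 : (blockEquiv 4).symm 4 = .inr 3 := rfl
  ext a b
  fin_cases a <;> fin_cases b <;>
    simp [σ, xTV, tGL, i0, i1, uMat, levMat, bl, b0, b1, b2, b3, b4, cor1, row1, Matrix.mul_apply,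
      Fin.sum_univ_five, Fin.sum_univ_four, vecMulVec_apply, Matrix.one_apply,
      Equiv.Perm.permMatrix, PEquiv.toMatrix_apply, Pi.single_apply, Equiv.swap_apply_def]

variable {G : Type*} [Group G] [Finite G]

theorem Mirab.base_two (D : Mirab F 2 G) {k : ℕ} (ρ : Representation ℂ G (Fin k → ℂ))
    (ψ : AddChar F ℂ) (hψ : ψ.IsPrimitive) (hq : 3 ≤ Fintype.card F) (hm : 2 ≤ 2)
    (l : (Fin 2 → F) → G) (hl0 : l 0 = 1) (hl : ∀ a b, l (a + b) = l a * l b)
    (hrel : ∀ (v : Fin 2 → F) (c : F), l v * D.u (c • perp v) * (l v)⁻¹ =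
      D.u (c • perp v) * D.L (tGL v (c • perp v) (perp_dot v c)))
    (ha : D.mult ρ ψ = 1) (hne : D.onW ρ ψ (xTV hm 1) ≠ 1) :
    geo (Fintype.card F) 2 ≤ finrank ℂ (D.W ρ ψ) + 1 := by
  obtain ⟨h1, h2⟩ := D.onW_two ρ ψ hψ hm hne
  have hg : geo (Fintype.card F) 2 = Fintype.card F + 1 := by
    simp [geo, Finset.sum_range_succ, add_comm]
  rw [hg]
  by_contra hlt
  have hf : finrank ℂ (D.W ρ ψ) + 1 = Fintype.card F := by omega
  have h3 := D.two_orth ρ ψ hψ hm l hl0 hl hrel (h2 hf)
  have hdim := D.finrank_eq ρ ψ hψ (card_cast_ne_zero (F := F)) hm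
  rw [Module.finrank_fin_fun] at h3 hdim
  rw [ha, one_mul] at hdim
  set q := Fintype.card F
  set f := finrank ℂ (D.W ρ ψ)
  have h4 : 2 * q ^ 2 ≤ q ^ 2 * f := by
    rw [mul_comm 2]; exact Nat.mul_le_mul_left _ (by omega)
  have h5 : q ≤ q ^ 2 := Nat.le_self_pow two_ne_zero q
  omega

theorem gl_torus_scal {m : ℕ} (hm : 2 ≤ m) (hq : 3 ≤ Fintype.card F) {V : Type*} [AddCommGroup V]
    [Module ℂ V] [FiniteDimensional ℂ V] (π : GL (Fin (m + 1)) F →* Module.End ℂ V)
    (ψ : AddChar F ℂ) (hψ : ψ.IsPrimitive) (ha : (glMirab F m).mult π ψ = 1) {w : Fin m → F}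
    (hw : w ≠ 0) (hw0 : w (i0 hm) = 0) :
    (glMirab F m).scal π ψ w ((glMirab F m).L (xTV hm 1)) = 1 := by
  classical
  obtain ⟨γ, hγ0, hγ1⟩ := exists_ne_zero_one hq
  set D := glMirab F m
  set N : Matrix (Fin m) (Fin m) F := diagonal (Function.update 1 (i0 hm) γ) with hN
  have hdet : N.det = γ := by
    rw [hN, det_diagonal, Finset.prod_update_of_mem (Finset.mem_univ _)]; simp
  set M := GeneralLinearGroup.mkOfDetNeZero N (by rw [hdet]; exact hγ0)
  set e : Fˣ := Units.mk0 γ hγ0
  refine D.scal_torus π ψ hψ (card_cast_ne_zero (F := F)) hm ha hw hw0 (h := corGL e * D.L M)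
    (μ := γ⁻¹) (by simpa [inv_eq_one] using hγ1) ?_ ?_
  · show π (corGL e * D.L M) * _ = _
    rw [map_mul, mul_assoc, D.lev_mul_E, show M.1.det = γ from hdet]
    have hMw : M.1 *ᵥ w = w := by
      show N *ᵥ w = w
      funext r
      rw [hN, mulVec_diagonal]
      by_cases hr : r = i0 hm
      · rw [hr, hw0, mul_zero]
      · simp [hr]
    rw [hMw, ← mul_assoc, ← mul_assoc]
    congr 1
    refine mul_eigProj_of_conj ψ _ (f := fun v => γ • v)
      (Finite.injective_iff_bijective.1 (smul_right_injective _ hγ0)) (fun v => ?_) fun v => ?_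
    · rw [← map_mul, ← map_mul]
      congr 1
      exact corGL_mul_uSL e v
    · rw [smul_dotProduct, dotProduct_smul]
  · intro c
    rw [mul_assoc, ← map_mul D.L, mul_xTV_of_vec hm (M := M) (a := 1) (b := γ) (μ := γ⁻¹) ?_ ?_
      (by field_simp), map_mul, ← mul_assoc]
    · rw [show corGL e * D.L (xTV hm (γ⁻¹ * c)) = D.L (xTV hm (γ⁻¹ * c)) * corGL e from
        corGL_comm_levSL e _, mul_assoc]
    · show N *ᵥ _ = _
      rw [hN, diagonal_mulVec_single, Function.update_of_ne (i0_ne_i1 hm).symm]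
      simp
    · show _ ᵥ* N = _
      funext r
      rw [hN, vecMul_diagonal]
      by_cases hr : r = i0 hm
      · simp [hr]
      · simp [hr]

/-- The bound for `GL_{m+1}`. -/
theorem gl_bound (m : ℕ) : ∀ (hm : 2 ≤ m), ¬ (Fintype.card F = 2 ∧ m ≤ 3) →
    ∀ {V : Type} [AddCommGroup V] [Module ℂ V] [FiniteDimensional ℂ V]
      (π : GL (Fin (m + 1)) F →* Module.End ℂ V), π (xTV (by omega : 2 ≤ m + 1) 1) ≠ 1 →
      geo (Fintype.card F) (m + 1) ≤ finrank ℂ V + 1 := by
  induction m using Nat.strong_induction_on with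
  | _ m ih =>
    intro hm hex V _ _ _ π hπ
    classical
    obtain ⟨k, σ, hσ, hσ1, hk⟩ := exists_irr_ne_one π hπ
    haveI := hσ
    obtain ⟨ψ, hψ⟩ := exists_primitiveChar F ℂ (by
      rw [ringChar.eq_zero]
      intro h
      exact (CharP.ringChar_ne_one (R := F)) (by
        have := CharP.char_is_prime F (ringChar F)
        rw [← h] at this
        exact absurd this (by decide)))
    have hK := card_cast_ne_zero (F := F)
    set D := glMirab F m
    set v : Fin m → F := fun _ => 1
    have hv : v ≠ 0 := fun h => one_ne_zero (congrFun h ⟨0, by omega⟩)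
    have hne : ∃ v, σ (D.u v) ≠ 1 := by
      refine ⟨v, fun h => hσ1 ?_⟩
      obtain ⟨c, hc⟩ := isConj_iff.1
        ((isConj_gl_iff (by omega) hv (xTV (by omega : 2 ≤ m + 1) 1)).2 (xTV_isTransv _))
      rw [← hc, map_mul, map_mul]
      show σ c * σ (D.u v) * σ c⁻¹ = 1
      rw [h, mul_one, ← map_mul, mul_inv_cancel, map_one]
    refine le_trans (D.step σ ψ hψ hm hne (glMirab_oneClass hm) (glMirab_classSize hm) ?_ ?_)
      (by omega)
    · intro ha w hw hfix
      have hw0 := apply_eq_zero_of_fix (i0_ne_i1 hm).symm one_ne_zero hfix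
      by_cases hq : 3 ≤ Fintype.card F
      · exact gl_torus_scal hm hq σ ψ hψ ha hw hw0
      · exact D.scal_four σ ψ hψ hK (by have := Fintype.one_lt_card (α := F); omega) ha hw
          (i0_ne_i1 hm).symm hw0 1
    · intro ha hnon
      rcases Nat.lt_or_ge m 3 with hm3 | hm3
      · obtain rfl : m = 2 := by omega
        have hq : 3 ≤ Fintype.card F := by have := Fintype.one_lt_card (α := F); omega
        refine D.base_two σ ψ hψ hq hm (fun v => SpecialLinearGroup.toGL (lSL v))
          (by rw [lSL_zero, map_one]) (fun a b => by rw [lSL_add, map_mul]) (fun v c => ?_) ha hnon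
        show SpecialLinearGroup.toGL (lSL v) * SpecialLinearGroup.toGL (uSL _) *
          (SpecialLinearGroup.toGL (lSL v))⁻¹ =
            SpecialLinearGroup.toGL (uSL _) * SpecialLinearGroup.toGL (levSL _)
        rw [← map_inv, ← map_mul, ← map_mul, ← map_mul, lSL_rel]
      · obtain ⟨j, rfl⟩ : ∃ j, m = j + 1 := ⟨m - 1, by omega⟩
        by_cases hfive : Fintype.card F = 2 ∧ j = 3
        · obtain ⟨hF, rfl⟩ := hfive
          exact D.five σ ψ hψ hF hm (glMirab_oneClass hm) (glMirab_classSize hm) ha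
            (by
              show IsConj (SpecialLinearGroup.toGL _ * SpecialLinearGroup.toGL _)
                (SpecialLinearGroup.toGL _)
              rw [← map_mul]
              exact (SpecialLinearGroup.toGL : Matrix.SpecialLinearGroup (Fin 5) F →* GL (Fin 5) F).map_isConj
                (five_conj_sl hF)) hnon
        · exact ih j (by omega) (by omega) (by omega) (D.onW σ ψ) hnon

/-- The bound for `SL_{m+1}`. -/
theorem sl_bound {m : ℕ} (hm : 2 ≤ m) (h1 : ¬ (Fintype.card F = 2 ∧ m ≤ 3))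
    (h2 : ¬ (Fintype.card F = 3 ∧ m = 3)) (h3 : ¬ (Fintype.card F = 4 ∧ m = 2)) {k : ℕ}
    (ρ : Representation ℂ (Matrix.SpecialLinearGroup (Fin (m + 1)) F) (Fin k → ℂ)) [ρ.IsIrreducible]
    (hne : ∃ v, ρ (uSL (m := m) v) ≠ 1) : geo (Fintype.card F) (m + 1) ≤ k + 1 := by
  classical
  obtain ⟨ψ, hψ⟩ := exists_primitiveChar F ℂ (by
    rw [ringChar.eq_zero]
    intro h
    exact (CharP.ringChar_ne_one (R := F)) (by
      have := CharP.char_is_prime F (ringChar F)
      rw [← h] at this
      exact absurd this (by decide)))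
  have hK := card_cast_ne_zero (F := F)
  have h2' := Fintype.one_lt_card (α := F)
  set D := slMirab F m
  refine D.step ρ ψ hψ hm hne (slMirab_oneClass hm) (slMirab_classSize hm) ?_ ?_
  · intro ha w hw hfix
    have hw0 := apply_eq_zero_of_fix (i0_ne_i1 hm).symm one_ne_zero hfix
    rcases Nat.lt_or_ge m 4 with hm4 | hm4
    · by_cases hm3 : m = 3
      · exact D.scal_three ρ ψ hψ hK ha hm hm3 (by omega) hw hw0
      · obtain ⟨α, hα0, hα⟩ := exists_cube_ne_one (F := F) (by omega) (by omega)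
        exact D.scal_two ρ ψ hψ hK ha hm (by omega) hα0 hα hw hw0
    · exact D.scal_four ρ ψ hψ hK hm4 ha hw (i0_ne_i1 hm).symm hw0 1
  · intro ha hnon
    rcases Nat.lt_or_ge m 3 with hm3 | hm3
    · obtain rfl : m = 2 := by omega
      exact D.base_two ρ ψ hψ (by omega) hm lSL lSL_zero lSL_add
        (fun v c => lSL_rel v _ (perp_dot v c)) ha hnon
    · obtain ⟨j, rfl⟩ : ∃ j, m = j + 1 := ⟨m - 1, by omega⟩
      by_cases hfive : Fintype.card F = 2 ∧ j = 3
      · obtain ⟨hF, rfl⟩ := hfive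
        exact D.five ρ ψ hψ hF hm (slMirab_oneClass hm) (slMirab_classSize hm) ha
          (by
            show IsConj (uSL _ * levSL _) (levSL _)
            exact five_conj_sl hF) hnon
      · exact gl_bound j (by omega) (by omega) (D.onW ρ ψ) hnon

end CfsgLib.LinDeg
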