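import Cfsg.Agent.Lib.LinDeg.Scal

/-!
The base case `m = 2`: the fixed space of the radical carries at least `q - 1` dimensions, and
exactly `q - 1` is impossible in small degree.
-/

set_option autoImplicit false

namespace CfsgLib.LinDeg

open Module Matrix

variable {F : Type*} [Field F] [Fintype F] {G : Type*} [Group G] (D : Mirab F 2 G)
  {V : Type*} [AddCommGroup V] [Module ℂ V] [FiniteDimensional ℂ V] (π : G →* Module.End ℂ V)
  (ψ : AddChar F ℂ) (hψ : ψ.IsPrimitive)

/-- The orthogonal row of a column. -/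
def perp (v : Fin 2 → F) : Fin 2 → F := ![v 1, -v 0]

theorem perp_dot (v : Fin 2 → F) (c : F) : (c • perp v) ⬝ᵥ v = 0 := by
  simp [perp, dotProduct, Fin.sum_univ_two]; ring

include hψ in
theorem Mirab.onW_two (hm : 2 ≤ 2) (hne : D.onW π ψ (xTV hm 1) ≠ 1) :
    Fintype.card F - 1 ≤ finrank ℂ (D.W π ψ) ∧
      (finrank ℂ (D.W π ψ) + 1 = Fintype.card F → ∑ c : F, D.onW π ψ (xTV hm c) = 0) := by
  classical
  have hK := card_cast_ne_zero (F := F)
  set τ : (Fin 1 → F) → Module.End ℂ (D.W π ψ) := fun v => D.onW π ψ (xTV hm (v 0)) with hτ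
  have h0 : τ 0 = 1 := by
    show D.onW π ψ (xTV hm 0) = 1
    have : xTV (F := F) hm 0 = 1 := Units.ext (by simp [xTV, tGL])
    rw [this, map_one]
  have hadd : ∀ a b, τ (a + b) = τ a * τ b := fun a b => by
    show D.onW π ψ (xTV hm (a 0 + b 0)) = _
    rw [xTV_add, map_mul]
  have htrans : ∀ w w' : Fin 1 → F, w ≠ 0 → w' ≠ 0 → ∃ g : Module.End ℂ (D.W π ψ),
      IsUnit g ∧ g * eigProj ψ τ w = eigProj ψ τ w' * g := by
    intro w w' hw hw'
    have hw0 : w 0 ≠ 0 := fun h => hw (funext fun i => by rw [Subsingleton.elim i 0]; exact h)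
    have hw0' : w' 0 ≠ 0 := fun h => hw' (funext fun i => by rw [Subsingleton.elim i 0]; exact h)
    set γ := w' 0 / w 0 with hγ
    have hγ0 : γ ≠ 0 := div_ne_zero hw0' hw0
    set N : Matrix (Fin 2) (Fin 2) F := !![γ, 0; 0, 1] with hN
    set M := GeneralLinearGroup.mkOfDetNeZero N (by simpa [hN, det_fin_two] using hγ0)
    refine ⟨D.onW π ψ M, isUnit_map _ _, ?_⟩
    refine mul_eigProj_of_conj ψ τ (f := fun v => γ⁻¹ • v) ?_ ?_ ?_
    · exact Finite.injective_iff_bijective.1 (smul_right_injective _ (inv_ne_zero hγ0))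
    · intro v
      show _ * D.onW π ψ (xTV hm (v 0)) = D.onW π ψ (xTV hm ((γ⁻¹ • v) 0)) * _
      rw [← map_mul, ← map_mul, mul_xTV_of_vec hm (M := M) (a := 1) (b := γ) (μ := γ⁻¹) ?_ ?_
        (by field_simp)]
      · rfl
      · show N *ᵥ _ = _
        funext r
        fin_cases r <;> simp [hN, i1, mulVec, dotProduct, Fin.sum_univ_two]
      · show _ ᵥ* N = _
        funext r
        fin_cases r <;> simp [hN, i0, vecMul, dotProduct, Fin.sum_univ_two]
    · intro v
      simp [dotProduct, hγ]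
      field_simp
  have hne' : ∃ v, τ v ≠ 1 := ⟨fun _ => 1, hne⟩
  have hlow := card_sub_one_le_finrank ψ hψ τ h0 hadd hK hne' htrans
  rw [pow_one] at hlow
  refine ⟨hlow, fun hf => ?_⟩
  have hsum := finrank_eq_sum_range (eigProj ψ τ) (eigProj_mul ψ hψ τ hadd hK)
    (sum_eigProj ψ hψ τ h0 hK)
  rw [← Finset.add_sum_erase _ _ (Finset.mem_univ (0 : Fin 1 → F))] at hsum
  have hge : ∑ w ∈ Finset.univ.erase (0 : Fin 1 → F), 1 ≤
      ∑ w ∈ Finset.univ.erase (0 : Fin 1 → F), finrank ℂ (LinearMap.range (eigProj ψ τ w)) := by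
    refine Finset.sum_le_sum fun w hw => ?_
    obtain ⟨w₁, hw₁0, hw₁⟩ : ∃ w, w ≠ 0 ∧ eigProj ψ τ w ≠ 0 := by
      by_contra h
      simp only [not_exists, not_and, not_not] at h
      obtain ⟨v, hv⟩ := hne'
      apply hv
      have hs := sum_eigProj ψ hψ τ h0 hK
      rw [Finset.sum_eq_single 0 (fun w _ hw => h w hw) (by simp)] at hs
      rw [eq_sum_eigProj ψ hψ τ h0 hadd hK v,
        Finset.sum_eq_single 0 (fun w _ hw => by rw [h w hw, smul_zero]) (by simp), dotProduct_zero,
        AddChar.map_zero_eq_one, one_smul, hs]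
    obtain ⟨g, hg, he⟩ := htrans w₁ w hw₁0 (Finset.ne_of_mem_erase hw)
    rw [Nat.one_le_iff_ne_zero]
    intro h
    rw [Submodule.finrank_eq_zero, LinearMap.range_eq_bot] at h
    rw [h, zero_mul] at he
    exact hw₁ ((hg.mul_right_eq_zero).1 he)
  rw [Finset.sum_const, smul_eq_mul, mul_one, Finset.card_erase_of_mem (Finset.mem_univ _),
    Finset.card_univ, Fintype.card_fun, Fintype.card_fin, pow_one] at hge
  have h00 : finrank ℂ (LinearMap.range (eigProj ψ τ 0)) = 0 := by omega
  rw [Submodule.finrank_eq_zero, LinearMap.range_eq_bot, eigProj, smul_eq_zero] at h00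
  rcases h00 with h00 | h00
  · exact absurd h00 (inv_ne_zero (by simpa using pow_ne_zero 1 hK))
  · rw [← h00]
    refine Fintype.sum_equiv (Equiv.funUnique (Fin 1) F).symm _ _ fun c => ?_
    simp [τ]

include hψ in
/-- If the fixed space has dimension `q - 1`, the degree is large. -/
theorem Mirab.two_orth (hm : 2 ≤ 2) (l : (Fin 2 → F) → G) (hl0 : l 0 = 1)
    (hl : ∀ a b, l (a + b) = l a * l b)
    (hrel : ∀ (v : Fin 2 → F) (c : F), l v * D.u (c • perp v) * (l v)⁻¹ =
      D.u (c • perp v) * D.L (tGL v (c • perp v) (perp_dot v c)))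
    (hsum : ∑ c : F, D.onW π ψ (xTV hm c) = 0) :
    Fintype.card F ^ 2 * finrank ℂ (D.W π ψ) ≤ finrank ℂ V := by
  classical
  have hK := card_cast_ne_zero (F := F)
  set E0 := D.E π ψ 0 with hE0
  have hidem : E0 * E0 = E0 := by rw [eigProj_mul ψ hψ _ (D.tau_add π) hK, if_pos rfl]
  have hu : ∀ v, π (D.u v) * E0 = E0 := fun v => by
    rw [show π (D.u v) * E0 = ψ (v ⬝ᵥ 0) • E0 from mul_eigProj ψ (fun v => π (D.u v)) (D.tau_add π) v 0,
      dotProduct_zero, AddChar.map_zero_eq_one, one_smul]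
  have hu' : ∀ v, E0 * π (D.u v) = E0 := fun v => by
    rw [← (D.u_mem_stab π ψ v 0 : π (D.u v) * _ = _), hu]
  have hLE : ∀ M, π (D.L M) * E0 = E0 * π (D.L M) := fun M => by
    have h := D.lev_mul_E π ψ M 0
    rwa [mulVec_zero, smul_zero] at h
  have key : ∀ v : Fin 2 → F, v ≠ 0 → E0 * π (l (-v)) * E0 = 0 := by
    intro v hv
    have hinv : (l v)⁻¹ = l (-v) := inv_eq_of_mul_eq_one_right (by rw [← hl, add_neg_cancel, hl0])
    obtain ⟨M, hM⟩ : ∃ M : GL (Fin 2) F, ∀ c, tGL v (c • perp v) (perp_dot v c) =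
        M * xTV hm c * M⁻¹ := by
      obtain ⟨a, b, hab⟩ : ∃ a b : F, a * v 1 - v 0 * b = 1 := by
        by_cases h : v 0 = 0
        · have h1 : v 1 ≠ 0 := fun h1 => hv (funext fun i => by fin_cases i <;> assumption)
          exact ⟨(v 1)⁻¹, 0, by rw [inv_mul_cancel₀ h1, mul_zero, sub_zero]⟩
        · exact ⟨0, -(v 0)⁻¹, by rw [zero_mul, mul_neg, mul_inv_cancel₀ h]; ring⟩
      refine ⟨GeneralLinearGroup.mkOfDetNeZero !![a, v 0; b, v 1]
        (by rw [det_fin_two]; simp [hab]), fun c => ?_⟩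
      rw [eq_mul_inv_iff_mul_eq]
      apply Units.ext
      show (1 + _) * !![a, v 0; b, v 1] = !![a, v 0; b, v 1] * (1 + _)
      ext r s
      fin_cases r <;> fin_cases s <;>
        simp [perp, i0, i1, Matrix.mul_apply, Fin.sum_univ_two, vecMulVec_apply] <;>
        first
          | linear_combination (v 0 * c) * hab
          | linear_combination (v 1 * c) * hab
          | ring
    have hS : ∑ c : F, π (D.L (tGL v (c • perp v) (perp_dot v c))) * E0 = 0 := by
      have h1 : ∑ c : F, π (D.L (xTV hm c)) * E0 = 0 := by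
        refine LinearMap.ext fun x => ?_
        have := congrArg Subtype.val (congrArg (fun T => T ⟨E0 x, x, rfl⟩) hsum)
        simp only [LinearMap.sum_apply, Submodule.coe_sum, LinearMap.zero_apply] at this ⊢
        exact this
      calc ∑ c : F, π (D.L (tGL v (c • perp v) (perp_dot v c))) * E0
          = π (D.L M) * (∑ c : F, π (D.L (xTV hm c)) * E0) * π (D.L M⁻¹) := by
            rw [Finset.mul_sum, Finset.sum_mul]
            refine Finset.sum_congr rfl fun c _ => ?_
            rw [hM, map_mul, map_mul, map_mul, map_mul, mul_assoc (π (D.L M) * π (D.L (xTV hm c))),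
              hLE, ← mul_assoc, ← mul_assoc (π (D.L M)) (π (D.L (xTV hm c))) E0]
        _ = 0 := by rw [h1, mul_zero, zero_mul]
    set P := π (l v) * E0 * π (l (-v)) with hP
    have hPu : ∀ c : F, P * π (D.u (c • perp v) * D.L (tGL v (c • perp v) (perp_dot v c))) = P := by
      intro c
      have e1 : π (l (-v)) * π (l v) = 1 := by
        rw [← map_mul, ← hl, neg_add_cancel, hl0, map_one]
      rw [← hrel, hinv, map_mul, map_mul, hP]
      simp only [mul_assoc]
      rw [← mul_assoc (π (l (-v))) (π (l v)), e1, one_mul, ← mul_assoc E0, hu']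
    have hzero : P * E0 = 0 := by
      have h2 : (Fintype.card F : ℂ) • (P * E0) = 0 := by
        calc (Fintype.card F : ℂ) • (P * E0)
            = ∑ c : F, P * π (D.u (c • perp v) * D.L (tGL v (c • perp v) (perp_dot v c))) * E0 := by
              simp_rw [hPu]
              rw [Finset.sum_const, Finset.card_univ, Nat.cast_smul_eq_nsmul]
          _ = P * ∑ c : F, π (D.L (tGL v (c • perp v) (perp_dot v c))) * E0 := by
              rw [Finset.mul_sum]
              refine Finset.sum_congr rfl fun c _ => ?_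
              set X := π (D.L (tGL v (c • perp v) (perp_dot v c)))
              set U := π (D.u (c • perp v)) with hU
              calc P * π (D.u (c • perp v) * D.L (tGL v (c • perp v) (perp_dot v c))) * E0
                  = P * (U * (X * E0)) := by rw [map_mul]; simp only [mul_assoc]; rfl
                _ = P * ((U * E0) * X) := by rw [hLE]; simp only [mul_assoc]; rfl
                _ = P * (X * E0) := by rw [hU, hu, hLE]
          _ = 0 := by rw [hS, mul_zero]
      exact (smul_eq_zero.1 h2).resolve_left hK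
    apply (isUnit_map π (l v)).mul_right_eq_zero.1
    rw [← mul_assoc, ← mul_assoc]
    exact hzero
  let P : (Fin 2 → F) → Module.End ℂ V := fun a => π (l a) * E0 * π (l (-a))
  have hPP : ∀ a b, P a * P b = if a = b then P b else 0 := by
    intro a b
    have e : P a * P b = π (l a) * (E0 * π (l (-(a - b))) * E0) * π (l (-b)) := by
      simp only [P, neg_sub]
      rw [show b - a = -a + b by abel, hl, map_mul]
      simp only [mul_assoc]
    rw [e]
    split_ifs with h
    · subst h
      rw [sub_self, neg_zero, hl0, map_one, mul_one, hidem]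
    · rw [key _ (sub_ne_zero.2 h), mul_zero, zero_mul]
  set Q := (1 : Module.End ℂ V) - ∑ a, P a with hQ
  have hPs : ∀ a, P a * ∑ b, P b = P a := fun a => by
    rw [Finset.mul_sum, Finset.sum_eq_single a (fun b _ hb => by rw [hPP, if_neg (Ne.symm hb)])
      (by simp), hPP, if_pos rfl]
  have hQQ : Q * Q = Q := by
    have h : (∑ a, P a) * ∑ b, P b = ∑ a, P a := by
      rw [Finset.sum_mul]; exact Finset.sum_congr rfl fun a _ => hPs a
    simp only [hQ, mul_sub, sub_mul, one_mul, mul_one, h]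
    abel
  have htrP : ∀ a, LinearMap.trace ℂ V (P a) = (finrank ℂ (D.W π ψ) : ℂ) := by
    intro a
    have hp : LinearMap.IsProj (D.W π ψ) E0 := ⟨fun x => ⟨x, rfl⟩, fun x hx => by
      obtain ⟨z, rfl⟩ := hx
      rw [← Module.End.mul_apply, hidem]⟩
    show LinearMap.trace ℂ V (π (l a) * E0 * π (l (-a))) = _
    rw [LinearMap.trace_mul_comm, ← mul_assoc, ← map_mul, ← hl, neg_add_cancel, hl0, map_one,
      one_mul, hp.trace]
  have hpQ : LinearMap.IsProj (LinearMap.range Q) Q := ⟨fun x => ⟨x, rfl⟩, fun x hx => by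
    obtain ⟨z, rfl⟩ := hx
    rw [← Module.End.mul_apply, hQQ]⟩
  have htQ := hpQ.trace
  rw [hQ, map_sub, map_sum, Finset.sum_congr rfl fun a _ => htrP a, Finset.sum_const,
    Finset.card_univ, Fintype.card_fun, Fintype.card_fin, nsmul_eq_mul, LinearMap.trace_one] at htQ
  have h : ((finrank ℂ (LinearMap.range Q) + Fintype.card F ^ 2 * finrank ℂ (D.W π ψ) : ℕ) : ℂ) =
      (finrank ℂ V : ℂ) := by
    push_cast at htQ ⊢
    rw [hQ]
    linear_combination -htQ
  have h' := Nat.cast_injective (R := ℂ) h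
  omega

end CfsgLib.LinDeg
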