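import Cfsg.Agent.Lib.LinDeg.Instances

/-!
The case `n = 5`, `q = 2`, where the fixed space of the radical is an exceptional representation
of `GL_4(2)`.
-/

set_option autoImplicit false

namespace CfsgLib.LinDeg

open Module Matrix

variable {F : Type*} [Field F] [Fintype F]

theorem card_fix {m : ℕ} (j : Fin m) [DecidableEq F] :
    (Finset.univ.filter fun w : Fin m → F => w j = 0).card * Fintype.card F = Fintype.card F ^ m := by
  have hp : (Pi.single j 1 : Fin m → F) ≠ 0 := by simp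
  rw [← card_hyperplane hp, Nat.card_eq_fintype_card, Fintype.card_subtype]
  congr 2
  ext w
  simp

theorem sum_fix {m : ℕ} {j l : Fin m} (h : l ≠ j) [DecidableEq F] (ψ : AddChar F ℂ)
    (hψ : ψ.IsPrimitive) :
    ∑ w ∈ Finset.univ.filter (fun w : Fin m → F => w j = 0), ψ ((Pi.single l 1 : Fin m → F) ⬝ᵥ w) = 0 := by
  have hne : ψ ≠ 1 := by simpa using hψ (one_ne_zero (α := F))
  obtain ⟨t, ht⟩ := AddChar.ne_one_iff.1 hne
  set S := ∑ w ∈ Finset.univ.filter (fun w : Fin m → F => w j = 0),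
    ψ ((Pi.single l 1 : Fin m → F) ⬝ᵥ w) with hS
  have : ψ t * S = S := by
    rw [hS, Finset.mul_sum]
    refine Finset.sum_equiv (Equiv.addLeft (Pi.single l t)) (fun w => ?_) (fun w _ => ?_)
    · simp [Pi.single_apply, h.symm]
    · simp [← AddChar.map_add_eq_mul]
  have h2 : (ψ t - 1) * S = 0 := by rw [sub_mul, one_mul, this, sub_self]
  exact (mul_eq_zero.1 h2).resolve_left (sub_ne_zero.2 ht)

theorem char_sq_of_card_two (hF : Fintype.card F = 2) (ψ : AddChar F ℂ) (x : F) : ψ x * ψ x = 1 := by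
  have h2 : (2 : F) = 0 := by
    have h := Nat.cast_card_eq_zero F
    rw [hF] at h
    exact_mod_cast h
  rw [← AddChar.map_add_eq_mul, show x + x = 2 * x by ring, h2, zero_mul, AddChar.map_zero_eq_one]

theorem Mirab.trace_E_zero {K : Type*} [Field K] {V : Type*} [AddCommGroup V] [Module K V]
    [FiniteDimensional K V] {G : Type*} [Group G] {m : ℕ} (D : Mirab F m G)
    (π : G →* Module.End K V) (ψ : AddChar F K) (hψ : ψ.IsPrimitive)
    (hK : (Fintype.card F : K) ≠ 0) :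
    LinearMap.trace K V (D.E π ψ 0) = (finrank K (D.W π ψ) : K) := by
  classical
  have hp : LinearMap.IsProj (D.W π ψ) (D.E π ψ 0) :=
    ⟨fun x => ⟨x, rfl⟩, fun x hx => by
      obtain ⟨z, rfl⟩ := hx
      rw [← Module.End.mul_apply, eigProj_mul ψ hψ _ (D.tau_add π) hK, if_pos rfl]⟩
  rw [hp.trace]

variable {G : Type*} [Group G] [Finite G]

theorem Mirab.five (D : Mirab F 4 G) {k : ℕ} (ρ : Representation ℂ G (Fin k → ℂ)) [ρ.IsIrreducible]
    (ψ : AddChar F ℂ) (hψ : ψ.IsPrimitive) (hF : Fintype.card F = 2) (hm : 2 ≤ 4)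
    (hone : HasOneClass D) (hcl : HasClassSize D) (ha : D.mult ρ ψ = 1)
    (hconj : IsConj (D.u (Pi.single 2 1) * D.L (xTV hm 1))
      (D.L (xTV hm 1 * tGL ((1 : F) • Pi.single 3 1) (Pi.single 2 1) (dot_eq_zero (by decide) 1))))
    (hne : D.onW ρ ψ (xTV hm 1) ≠ 1) :
    geo (Fintype.card F) 4 ≤ finrank ℂ (D.W ρ ψ) + 1 := by
  classical
  have hK := card_cast_ne_zero (F := F)
  have hgeo : geo (Fintype.card F) 4 = 15 := by rw [hF]; decide
  rw [hgeo]
  by_contra hlt
  set f := finrank ℂ (D.W ρ ψ) with hf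
  have hdim := D.finrank_eq ρ ψ hψ hK hm
  rw [Module.finrank_fin_fun, ha, one_mul, hF] at hdim
  norm_num at hdim
  set D' := glMirab F 3 with hD'
  set π' := D.onW ρ ψ with hπ'
  set v3 : Fin 3 → F := fun _ => 1 with hv3
  have hv30 : v3 ≠ 0 := fun h => one_ne_zero (congrFun h 0)
  have hX10 : IsTransv (xTV (F := F) hm 1).1 :=
    ⟨_, _, by simp, by simp, dot_eq_zero (i0_ne_i1 hm).symm 1, rfl⟩
  have hne' : ∃ v, π' (D'.u v) ≠ 1 := by
    refine ⟨v3, fun h => hne ?_⟩
    obtain ⟨c, hc⟩ := isConj_iff.1 ((isConj_gl_iff (m := 3) (by omega) hv30 (xTV hm 1)).2 hX10)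
    rw [← hc, map_mul, map_mul]
    show π' c * π' (D'.u v3) * π' c⁻¹ = 1
    rw [h, mul_one, ← map_mul, mul_inv_cancel, map_one]
  have hlow := D'.lower π' ψ hψ hK (by omega) hne'
  rw [hF, ← hf] at hlow
  norm_num at hlow
  have hv4 : (Pi.single 2 1 : Fin 4 → F) ≠ 0 := by simp
  have ht := D.trace_u ρ ψ hψ hK hm ha hv4
  have htk : ρ.character (D.u (Pi.single 2 1)) = (((k : ℤ) - 16 : ℤ) : ℂ) := by
    show LinearMap.trace ℂ _ (ρ _) = _
    have hk' : (k : ℂ) = (f : ℂ) + 15 := by exact_mod_cast hdim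
    rw [ht, ← hf]; push_cast; linear_combination -hk' 
  have hdvd := dvd_card_class_mul ρ _ _ htk
  rw [hcl _ hv4, hF, show geo 2 (4 + 1) * (2 ^ 4 - 1) = 465 by decide] at hdvd
  have h7440 : k ∣ 7440 := by
    obtain ⟨c, hc⟩ := hdvd
    exact Int.natCast_dvd_natCast.1 ⟨465 - c, by push_cast at hc ⊢; linear_combination -hc⟩
  have hk24 : k = 24 := by
    have key : ∀ j : ℕ, j ∣ 7440 → 22 ≤ j → j ≤ 28 → j = 24 := by
      intro j h h1 h2
      interval_cases j <;> first | rfl | omega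
    exact key k h7440 (by omega) (by omega)
  have hf9 : f = 9 := by omega
  -- the fixed space inside `GL_4(2)`
  have hpos' := D'.mult_pos π' ψ hψ hK (by omega) hne'
  have hdim' := D'.finrank_eq π' ψ hψ hK (by omega)
  rw [← hf, hf9, hF] at hdim'
  norm_num at hdim'
  have ha' : D'.mult π' ψ = 1 := by omega
  have hf2 : finrank ℂ (D'.W π' ψ) = 2 := by omega
  set D'' := glMirab F 2
  have hm3 : 2 ≤ 3 := by omega
  have htriv : D'.onW π' ψ (xTV hm3 1) = 1 := by
    let π'' : GL (Fin (2 + 1)) F →* Module.End ℂ (D'.W π' ψ) := D'.onW π' ψ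
    have hall : ∀ v, π'' (D''.u v) = 1 := by
      by_contra h
      simp only [not_forall] at h
      have h3 := Mirab.lower (K := ℂ) (V := D'.W π' ψ) D'' π'' ψ hψ hK le_rfl h
      rw [hf2, hF] at h3
      norm_num at h3
    set v2 : Fin 2 → F := fun _ => 1
    have hv20 : v2 ≠ 0 := fun h => one_ne_zero (congrFun h 0)
    have hX : IsTransv (xTV (F := F) hm3 1).1 :=
      ⟨_, _, by simp, by simp, dot_eq_zero (i0_ne_i1 hm3).symm 1, rfl⟩
    obtain ⟨c, hc⟩ := isConj_iff.1 ((isConj_gl_iff (m := 2) (by omega) hv20 (xTV hm3 1)).2 hX)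
    rw [← hc, map_mul, map_mul]
    show π'' c * π'' (D''.u v2) * π'' c⁻¹ = 1
    rw [hall, mul_one, ← map_mul, mul_inv_cancel, map_one]
  -- traces in the whole space
  set X := xTV (F := F) hm 1 with hX
  set Y : GL (Fin 4) F := tGL ((1 : F) • Pi.single 3 1) (Pi.single 2 1) (dot_eq_zero (by decide) 1)
    with hY
  have hfixX : ∀ w : Fin 4 → F, X.1 *ᵥ w = w ↔ w 0 = 0 := fun w =>
    ⟨fun h => apply_eq_zero_of_fix (i0_ne_i1 hm).symm one_ne_zero h, fun h => xTV_fix hm h 1⟩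
  have hscalX : ∀ w : Fin 4 → F, w ≠ 0 → w 0 = 0 → D.scal ρ ψ w (D.L X) = 1 :=
    fun w hw h0 => D.scal_four ρ ψ hψ hK (by omega) ha hw (i0_ne_i1 hm).symm h0 1
  have hscalY : ∀ w : Fin 4 → F, w ≠ 0 → w 2 = 0 → D.scal ρ ψ w (D.L Y) = 1 :=
    fun w hw h0 => D.scal_four ρ ψ hψ hK (by omega) ha hw (by decide) h0 1
  have hfilt : (Finset.univ.filter fun w : Fin 4 → F => X.1 *ᵥ w = w ∧ w ≠ 0) =
      (Finset.univ.filter fun w : Fin 4 → F => w 0 = 0).erase 0 := by
    ext w; simp [hfixX, and_comm]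
  have hcard8 : (Finset.univ.filter fun w : Fin 4 → F => w 0 = 0).card = 8 := by
    have := card_fix (F := F) (0 : Fin 4)
    rw [hF] at this
    omega
  have hmem0 : (0 : Fin 4 → F) ∈ Finset.univ.filter fun w : Fin 4 → F => w 0 = 0 := by simp
  have hv1 : (fun _ => 1 : Fin 4 → F) ≠ 0 := fun h => one_ne_zero (congrFun h 0)
  obtain ⟨c, hc⟩ := isConj_iff.1 (hone _ hv1 _ _ (dot_eq_zero (i0_ne_i1 hm).symm 1)
    (by simp) (by simp))
  have htX : LinearMap.trace ℂ _ (ρ (D.L X) * D.E ρ ψ 0) = 1 := by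
    have h1 := D.trace_uL ρ ψ hψ hK hm ha 0 X (det_xTV hm 1)
    have h2 : LinearMap.trace ℂ _ (ρ (D.L X)) = (f : ℂ) - 1 := by
      rw [show D.L X = c * D.u (fun _ => 1) * c⁻¹ from hc.symm, map_mul, LinearMap.trace_mul_comm,
        ← map_mul, ← mul_assoc, inv_mul_cancel, one_mul, D.trace_u ρ ψ hψ hK hm ha hv1]
    rw [D.u_zero, one_mul, h2, hfilt, Finset.sum_congr rfl fun w hw => by
      rw [hscalX w (Finset.ne_of_mem_erase hw) (Finset.mem_filter.1 (Finset.mem_of_mem_erase hw)).2,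
        zero_dotProduct, AddChar.map_zero_eq_one, mul_one], Finset.sum_const,
      Finset.card_erase_of_mem hmem0, hcard8, hf9] at h1
    norm_num at h1
    linear_combination -h1
  have htA : LinearMap.trace ℂ _ (ρ (D.u (Pi.single 2 1) * D.L X)) = 0 := by
    rw [D.trace_uL ρ ψ hψ hK hm ha _ X (det_xTV hm 1), htX, hfilt,
      Finset.sum_congr rfl fun w hw => by
        rw [hscalX w (Finset.ne_of_mem_erase hw) (Finset.mem_filter.1 (Finset.mem_of_mem_erase hw)).2,
          mul_one], Finset.sum_erase_eq_sub hmem0, sum_fix (by decide) ψ hψ]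
    simp
  have hfixB : ∀ w : Fin 4 → F, (X * Y).1 *ᵥ w = w ↔ w 0 = 0 ∧ w 2 = 0 := by
    intro w
    rw [Units.val_mul, ← mulVec_mulVec]
    constructor
    · intro h
      rw [hY, hX, xTV, tGL_mulVec, tGL_mulVec, single_dotProduct, single_dotProduct, one_mul,
        one_mul] at h
      have h1 := congrFun h 1
      have h3 := congrFun h 3
      simp [i0, i1] at h1 h3
      exact ⟨h1, h3⟩
    · rintro ⟨h0, h2⟩
      have hYw : Y.1 *ᵥ w = w := by
        rw [hY, tGL_mulVec, single_dotProduct, h2, mul_zero, zero_smul, add_zero]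
      rw [hYw, (hfixX w).2 h0]
  have hdetB : (X * Y).1.det = 1 := by
    rw [Units.val_mul, det_mul, det_xTV, det_tGL, one_mul]
  have hscalB : ∀ w : Fin 4 → F, w ≠ 0 → w 0 = 0 → w 2 = 0 → D.scal ρ ψ w (D.L (X * Y)) = 1 := by
    intro w hw h0 h2
    obtain ⟨χ, hχ⟩ := D.exists_scalHom ρ ψ hψ hK hm ha hw
    have hx : D.L X ∈ D.stab ρ ψ w := D.L_mem_stab ρ ψ (det_xTV hm 1) ((hfixX w).2 h0)
    have hy : D.L Y ∈ D.stab ρ ψ w := D.L_mem_stab ρ ψ (det_tGL _ _ _) (by
      rw [hY, tGL_mulVec, single_dotProduct, h2, mul_zero, zero_smul, add_zero])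
    have := χ.map_mul ⟨_, hx⟩ ⟨_, hy⟩
    rw [hχ, hχ, hχ, hscalX w hw h0, hscalY w hw h2, one_mul] at this
    rw [map_mul]
    exact this
  have hcard4 : (Finset.univ.filter fun w : Fin 4 → F => w 0 = 0 ∧ w 2 = 0).card = 4 := by
    have e : {w : Fin 4 → F // w 0 = 0 ∧ w 2 = 0} ≃ F × F :=
      { toFun := fun w => (w.1 1, w.1 3)
        invFun := fun p => ⟨![0, p.1, 0, p.2], by simp⟩
        left_inv := fun w => Subtype.ext (funext fun i => by
          fin_cases i <;> simp [w.2.1, w.2.2])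
        right_inv := fun p => by simp }
    rw [← Fintype.card_subtype, Fintype.card_congr e, Fintype.card_prod, hF]
  have htB : LinearMap.trace ℂ _ (ρ (D.L (X * Y)) * D.E ρ ψ 0) = -3 := by
    have h1 := D.trace_uL ρ ψ hψ hK hm ha 0 (X * Y) hdetB
    obtain ⟨d, hd⟩ := isConj_iff.1 hconj
    have hfilt4 : (Finset.univ.filter fun w : Fin 4 → F => (X * Y).1 *ᵥ w = w ∧ w ≠ 0) =
        (Finset.univ.filter fun w : Fin 4 → F => w 0 = 0 ∧ w 2 = 0).erase 0 := by
      ext w
      rw [Finset.mem_filter, Finset.mem_erase, Finset.mem_filter, hfixB]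
      tauto
    rw [D.u_zero, one_mul, show D.L (X * Y) = d * (D.u (Pi.single 2 1) * D.L X) * d⁻¹ from hd.symm,
      map_mul, LinearMap.trace_mul_comm, ← map_mul, ← mul_assoc, inv_mul_cancel, one_mul, htA,
      hfilt4, Finset.sum_congr rfl fun w hw => by
        have hw' := Finset.mem_filter.1 (Finset.mem_of_mem_erase hw)
        rw [← show D.L (X * Y) = d * (D.u (Pi.single 2 1) * D.L X) * d⁻¹ from hd.symm,
          hscalB w (Finset.ne_of_mem_erase hw) hw'.2.1 hw'.2.2, zero_dotProduct,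
          AddChar.map_zero_eq_one, mul_one],
      Finset.sum_const, Finset.card_erase_of_mem (by simp), hcard4] at h1
    rw [show D.L (X * Y) = d * (D.u (Pi.single 2 1) * D.L X) * d⁻¹ from hd.symm]
    simp only [map_mul] at h1 ⊢
    norm_num at h1
    linear_combination -h1
  -- the same element seen inside the fixed space
  set h' : GL (Fin 4) F := D'.u (Pi.single 2 1) * D'.L (xTV hm3 1) with hh'
  have hconj' : IsConj h' (X * Y) := by
    let σ : Equiv.Perm (Fin 4) := finRotate 4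
    let P : GL (Fin 4) F := GeneralLinearGroup.mkOfDetNeZero (σ.permMatrix F) (by
      rw [det_permutation]; rcases Int.units_eq_one_or (Equiv.Perm.sign σ) with h | h <;> simp [h])
    refine IsConj.symm ?_
    have hPM : P * (X * Y) = h' * P := by
        apply Units.ext
        show σ.permMatrix F * (X * Y).1 =
          (uMat (Pi.single 2 1) * levMat ((xTV hm3 1).1.det)⁻¹ (xTV hm3 1).1) * σ.permMatrix F
        rw [det_xTV, inv_one]
        have b0 : (blockEquiv 3).symm 0 = .inl () := rfl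
        have b1 : (blockEquiv 3).symm 1 = .inr 0 := rfl
        have b2 : (blockEquiv 3).symm 2 = .inr 1 := rfl
        have b3 : (blockEquiv 3).symm 3 = .inr 2 := rfl
        ext a b
        fin_cases a <;> fin_cases b <;>
          simp [X, Y, σ, xTV, tGL, i0, i1, uMat, levMat, bl, b0, b1, b2, b3, cor1, row1, Matrix.mul_apply,
            Fin.sum_univ_four, vecMulVec_apply, Matrix.one_apply, Equiv.Perm.permMatrix,
            PEquiv.toMatrix_apply, Fin.sum_univ_three, Pi.single_apply]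
    exact isConj_iff.2 ⟨P, mul_inv_eq_iff_eq_mul.2 hPM⟩
  obtain ⟨e, he⟩ := isConj_iff.1 hconj'
  have h2 : LinearMap.trace ℂ _ (π' h') = -3 := by
    have : LinearMap.trace ℂ _ (π' (X * Y)) = -3 := by
      rw [hπ', D.trace_onW ρ ψ _ hψ hK, htB]
    rw [← he, map_mul, LinearMap.trace_mul_comm, ← map_mul, ← mul_assoc, inv_mul_cancel, one_mul]
      at this
    exact this
  rw [hh', D'.trace_uL π' ψ hψ hK hm3 ha' _ _ (det_xTV hm3 1), (D'.onW_eq_one_iff π' ψ hψ hK _).1 htriv]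
    at h2
  rw [Mirab.trace_E_zero (K := ℂ) (V := D.W ρ ψ) D' π' ψ hψ hK, hf2] at h2
  set S := Finset.univ.filter (fun w : Fin 3 → F => (xTV hm3 (1 : F)).1 *ᵥ w = w ∧ w ≠ 0) with hS
  have hS3 : S.card ≤ 3 := by
    have h4 : (Finset.univ.filter fun w : Fin 3 → F => w 0 = 0).card = 4 := by
      have := card_fix (F := F) (0 : Fin 3)
      rw [hF] at this
      omega
    have : S ⊆ (Finset.univ.filter fun w : Fin 3 → F => w 0 = 0).erase 0 := by
      intro w hw
      obtain ⟨-, hw1, hw2⟩ := Finset.mem_filter.1 hw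
      exact Finset.mem_erase.2 ⟨hw2, Finset.mem_filter.2 ⟨Finset.mem_univ _,
        apply_eq_zero_of_fix (i0_ne_i1 hm3).symm one_ne_zero hw1⟩⟩
    have := Finset.card_le_card this
    rw [Finset.card_erase_of_mem (by simp), h4] at this
    exact this
  have hterm : ∀ w ∈ S, ‖ψ ((Pi.single 2 1 : Fin 3 → F) ⬝ᵥ w) * D'.scal π' ψ w (D'.L (xTV hm3 1))‖ = 1 := by
    intro w hw
    obtain ⟨-, hw1, hw2⟩ := Finset.mem_filter.1 hw
    obtain ⟨χ, hχ⟩ := D'.exists_scalHom π' ψ hψ hK hm3 ha' hw2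
    have hx : D'.L (xTV hm3 1) ∈ D'.stab π' ψ w := D'.L_mem_stab π' ψ (det_xTV hm3 1) hw1
    have hs : D'.scal π' ψ w (D'.L (xTV hm3 1)) * D'.scal π' ψ w (D'.L (xTV hm3 1)) = 1 := by
      rw [← hχ ⟨_, hx⟩, ← map_mul]
      have h20 : (1 : F) + 1 = 0 := by
        have h := Nat.cast_card_eq_zero F
        rw [hF] at h
        push_cast at h
        linear_combination h
      have : (⟨_, hx⟩ * ⟨_, hx⟩ : D'.stab π' ψ w) = 1 := Subtype.ext (by
        show D'.L (xTV hm3 1) * D'.L (xTV hm3 1) = 1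
        rw [← map_mul, ← xTV_add, h20, show xTV (F := F) hm3 0 = 1 from Units.ext (by simp [xTV, tGL]),
          map_one])
      rw [this, map_one]
    have hsq : ∀ z : ℂ, z * z = 1 → ‖z‖ = 1 := fun z hz => by
      rcases mul_self_eq_one_iff.1 hz with h | h <;> simp [h]
    rw [norm_mul, hsq _ (char_sq_of_card_two hF ψ _), hsq _ hs, one_mul]
  have hnorm := norm_sum_le S (fun w =>
    ψ ((Pi.single 2 1 : Fin 3 → F) ⬝ᵥ w) * D'.scal π' ψ w (D'.L (xTV hm3 1)))
  rw [Finset.sum_congr rfl hterm, Finset.sum_const, nsmul_eq_mul, mul_one] at hnorm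
  have h5 : ∑ w ∈ S, ψ ((Pi.single 2 1 : Fin 3 → F) ⬝ᵥ w) * D'.scal π' ψ w (D'.L (xTV hm3 1)) =
      -5 := by
    push_cast at h2
    linear_combination h2
  rw [h5] at hnorm
  have hS3' : (S.card : ℝ) ≤ 3 := by exact_mod_cast hS3
  norm_num at hnorm
  linarith

end CfsgLib.LinDeg
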