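import Cfsg.Agent.Lib.LinDeg.Orbits

/-!
In a small action without regular orbits the stabilisers in the radical are hyperplanes.
-/

set_option autoImplicit false

namespace CfsgLib.LinDeg

open Module Matrix

variable {F : Type*} [Field F] [Fintype F]

theorem exists_dual_ne_zero {n : ℕ} (s : Set (Fin n → F)) {x : Fin n → F}
    (h : x ∉ Submodule.span F s) : ∃ φ : Fin n → F, (∀ y ∈ s, φ ⬝ᵥ y = 0) ∧ φ ⬝ᵥ x = 1 := by
  obtain ⟨f, hf, hfs⟩ := Submodule.exists_dual_map_eq_bot_of_notMem h inferInstance
  set φ : Fin n → F := fun i => f (Pi.single i 1)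
  have e : ∀ y, φ ⬝ᵥ y = f y := fun y => by
    have hy : y = ∑ i, y i • Pi.single i (1 : F) := by
      funext j; simp [Finset.sum_apply, Pi.single_apply]
    conv_rhs => rw [hy, map_sum]
    simp [φ, dotProduct, mul_comm]
  refine ⟨(φ ⬝ᵥ x)⁻¹ • φ, fun y hy => ?_, ?_⟩
  · rw [smul_dotProduct, e y]
    have : f y ∈ (Submodule.span F s).map f := ⟨y, Submodule.subset_span hy, rfl⟩
    rw [hfs, Submodule.mem_bot] at this
    rw [this, smul_zero]
  · rw [smul_dotProduct, smul_eq_mul, inv_mul_cancel₀]
    rw [e]; exact hf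

variable {m : ℕ} {Ω : Type*} [Fintype Ω] [MulAction (Matrix.SpecialLinearGroup (Fin (m + 1)) F) Ω]
  (ψ : AddChar F ℂ) (hψ : ψ.IsPrimitive)

include hψ in
theorem not_all_perp {x : Ω} {t : Fin m → F} (ht : t ∈ uStab F m x) (ht0 : t ≠ 0) :
    ¬ ∀ z : Fin m → F, Perp ψ x z := by
  classical
  intro h
  have h1 := sum_char_dot ψ hψ ht0
  simp only [fun w => dotProduct_comm w t, h _ t ht, Finset.sum_const, nsmul_eq_mul, mul_one,
    Finset.card_univ, Fintype.card_fun, Fintype.card_fin] at h1
  exact pow_ne_zero m (card_cast_ne_zero (F := F)) (by exact_mod_cast h1)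

include hψ in
theorem Small.block_line (hS : Small F m Ω) {x : Ω} {t : Fin m → F} (ht : t ∈ uStab F m x)
    (ht0 : t ≠ 0) {w y : Fin m → F} (hw0 : w ≠ 0) (hw : Perp ψ x w) (hy : Perp ψ x y) :
    ∃ c : F, y = c • w := by
  by_contra hne
  simp only [not_exists] at hne
  have key : ∀ w y : Fin m → F, w ≠ 0 → Perp ψ x w → Perp ψ x y → ∀ φ u : Fin m → F,
      φ ⬝ᵥ w = 0 → φ ⬝ᵥ y = 1 → φ ⬝ᵥ u = 0 → Perp ψ x u := by
    intro w y hw0 hw hy φ u h1 h2 h3
    set M := tGL u φ h3
    have hMw : M.1 *ᵥ w = w := by rw [tGL_mulVec, h1, zero_smul, add_zero]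
    have hMy : M.1 *ᵥ y = y + u := by rw [tGL_mulVec, h2, one_smul]
    have hx' : Perp ψ (levSL M • x) w := by
      have := perp_levSL (det_tGL _ _ _) hw (ψ := ψ) (M := M)
      rwa [hMw] at this
    obtain ⟨a, ha⟩ := hS.perp_unique ψ hψ hw0 hw hx'
    have h4 : Perp ψ (levSL M • x) (y + u) := by
      have := perp_levSL (det_tGL _ _ _) hy (ψ := ψ) (M := M)
      rwa [hMy] at this
    rw [ha, perp_smul_orbit] at h4
    simpa using h4.sub hy
  have hy0 : y ≠ 0 := fun h => hne 0 (by rw [h, zero_smul])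
  obtain ⟨φ, hφ, hφy⟩ := exists_dual_ne_zero {w} (x := y) (by
    rw [Submodule.mem_span_singleton]; rintro ⟨c, hc⟩; exact hne c hc.symm)
  obtain ⟨φ', hφ', hφw⟩ := exists_dual_ne_zero {y} (x := w) (by
    rw [Submodule.mem_span_singleton]
    rintro ⟨c, hc⟩
    have hc0 : c ≠ 0 := fun h => hw0 (by rw [← hc, h, zero_smul])
    exact hne c⁻¹ (by rw [← hc, smul_smul, inv_mul_cancel₀ hc0, one_smul]))
  refine not_all_perp ψ hψ ht ht0 fun z => ?_
  have h1 : Perp ψ x (z - (φ ⬝ᵥ z) • y) := key w y hw0 hw hy φ _ (hφ w rfl) hφy (by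
    rw [dotProduct_sub, dotProduct_smul, hφy, smul_eq_mul, mul_one, sub_self])
  have h2 : Perp ψ x ((φ ⬝ᵥ z) • y) := key y w hy0 hy hw φ' _ (hφ' y rfl) hφw (by
    rw [dotProduct_smul, hφ' y rfl, smul_zero])
  simpa using h1.add h2

include hψ in
open Classical in
theorem card_stab_mul_perp (x : Ω) :
    (Finset.univ.filter (fun v => v ∈ uStab F m x)).card *
      (Finset.univ.filter (fun w : Fin m → F => Perp ψ x w)).card = Fintype.card F ^ m := by
  apply Nat.cast_injective (R := ℂ)
  push_cast
  calc ((Finset.univ.filter (fun v => v ∈ uStab F m x)).card : ℂ) *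
      (Finset.univ.filter (fun w : Fin m → F => Perp ψ x w)).card
      = ∑ w : Fin m → F, ∑ v ∈ Finset.univ.filter (fun v => v ∈ uStab F m x), ψ (-(v ⬝ᵥ w)) := by
        rw [Finset.sum_congr rfl fun w _ => sum_stab_char ψ hψ x w, ← Finset.sum_filter,
          Finset.sum_const, nsmul_eq_mul, mul_comm]
    _ = ∑ v ∈ Finset.univ.filter (fun v => v ∈ uStab F m x), ∑ w : Fin m → F, ψ (-(v ⬝ᵥ w)) :=
        Finset.sum_comm
    _ = _ := by
        rw [Finset.sum_eq_single 0]
        · simp
        · intro v _ hv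
          have h := sum_char_dot ψ hψ (neg_ne_zero.2 hv)
          simpa [fun w => dotProduct_comm w (-v), neg_dotProduct] using h
        · simp [zero_mem]

include hψ in
/-- Partial lines only occur in large sets. -/
theorem Small.line_full (hS : Small F m Ω)
    (hcase : Fintype.card F = 3 ∨ (Fintype.card F = 4 ∧ Fintype.card Ω < 2 * (Fintype.card F ^ m - 1)))
    (hreg : ∀ x : Ω, ∃ t ∈ uStab F m x, t ≠ 0)
    {x : Ω} {w : Fin m → F} (hw0 : w ≠ 0) (hw : Perp ψ x w) (c : F) : Perp ψ x (c • w) := by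
  classical
  rcases hcase with h3 | ⟨h4, hd⟩
  · haveI : Fact (Nat.Prime 3) := ⟨Nat.prime_three⟩
    let e : ZMod 3 ≃+* F := ZMod.ringEquivOfPrime F Nat.prime_three h3
    have hn : c = ((e.symm c).val : F) := by
      conv_lhs => rw [← e.apply_symm_apply c, ← ZMod.natCast_zmod_val (e.symm c)]
      exact map_natCast e _
    rw [hn]
    generalize (e.symm c).val = n
    induction n with
    | zero => intro v _; simp
    | succ n ih => rw [Nat.cast_succ, add_smul, one_smul]; exact ih.add hw
  by_contra hne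
  have hchar : (2 : F) = 0 := by
    have h := Nat.cast_card_eq_zero F
    rw [h4] at h
    push_cast at h
    have : (2 : F) * 2 = 0 := by linear_combination h
    rcases mul_eq_zero.1 this with h' | h' <;> exact h'
  have honly : ∀ e : F, Perp ψ x (e • w) → e = 0 ∨ e = 1 := by
    intro e he
    by_contra hh
    simp only [not_or] at hh
    have hs : (Finset.univ : Finset F) = {0, 1, e, 1 + e} := by
      symm
      apply Finset.eq_univ_of_card
      rw [h4]
      have e1 : e ≠ 1 + e := fun h => one_ne_zero (α := F) (by linear_combination -h)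
      have e2 : (1 : F) ≠ 1 + e := fun h => hh.1 (by linear_combination -h)
      have e3 : (0 : F) ≠ 1 + e := fun h => hh.2 (by linear_combination -h - hchar)
      simp [Finset.card_insert_of_notMem, zero_ne_one, Ne.symm hh.1, Ne.symm hh.2, e1, e2, e3]
    have hc := Finset.mem_univ c
    rw [hs] at hc
    simp only [Finset.mem_insert, Finset.mem_singleton] at hc
    apply hne
    rcases hc with rfl | rfl | rfl | rfl
    · intro v _; simp
    · rwa [one_smul]
    · exact he
    · rw [add_smul, one_smul]; exact hw.add he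
  -- every line behaves in the same way, so each point carries at most one vector
  have hat : ∀ z : Ω, (Finset.univ.filter fun w' : Fin m → F => w' ≠ 0 ∧ Perp ψ z w').card ≤ 1 := by
    intro z
    rw [Finset.card_le_one]
    intro a ha b hb
    obtain ⟨-, ha0, ha⟩ := Finset.mem_filter.1 ha
    obtain ⟨-, hb0, hb⟩ := Finset.mem_filter.1 hb
    obtain ⟨t, ht, ht0⟩ := hreg z
    obtain ⟨e, rfl⟩ := hS.block_line ψ hψ ht ht0 ha0 ha hb
    obtain ⟨M, hM, hMw⟩ := exists_det_one_mulVec hS.hm ha0 hw0
    have h1 := perp_levSL hM hb (ψ := ψ)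
    have h2 := perp_levSL hM ha (ψ := ψ)
    rw [hMw] at h2
    rw [mulVec_smul, hMw] at h1
    obtain ⟨u, hu⟩ := hS.perp_unique ψ hψ hw0 hw h2
    rw [hu, perp_smul_orbit] at h1
    rcases honly e h1 with rfl | rfl
    · exact absurd (zero_smul F a) hb0
    · rw [one_smul]
  have hlow : ∀ w' : Fin m → F, w' ≠ 0 → 2 ≤ (Finset.univ.filter fun z : Ω => Perp ψ z w').card := by
    intro w' hw'
    obtain ⟨z, hz⟩ := hS.exists_perp ψ hψ hw'
    obtain ⟨v, hv⟩ : ∃ v : Fin m → F, v ∉ uStab F m z := by
      by_contra h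
      simp only [not_exists, not_not] at h
      have h1 := sum_char_dot ψ hψ hw'
      rw [Finset.sum_congr rfl fun v _ => hz v (h v)] at h1
      simp at h1
    refine Finset.one_lt_card.2 ⟨z, by simp [hz], uSL v • z, by simp [perp_smul_orbit, hz], ?_⟩
    exact fun h => hv (mem_uStab.2 h.symm)
  have hdouble : ∑ w' ∈ Finset.univ.filter (fun w' : Fin m → F => w' ≠ 0),
      (Finset.univ.filter fun z : Ω => Perp ψ z w').card ≤ Fintype.card Ω := by
    simp only [Finset.card_filter]
    rw [Finset.sum_comm, Fintype.card_eq_sum_ones]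
    refine Finset.sum_le_sum fun z _ => ?_
    rw [← Finset.card_filter, Finset.filter_filter]
    exact hat z
  have h5 := Finset.sum_le_sum (s := Finset.univ.filter fun w' : Fin m → F => w' ≠ 0)
    fun w' hw' => hlow w' (Finset.mem_filter.1 hw').2
  rw [Finset.sum_const, Finset.filter_ne', Finset.card_erase_of_mem (Finset.mem_univ _),
    Finset.card_univ, Fintype.card_fun, Fintype.card_fin, smul_eq_mul] at h5
  rw [Finset.filter_ne'] at hdouble
  omega

include hψ in
/-- All stabilisers are hyperplanes. -/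
theorem Small.hyperplanes (hS : Small F m Ω)
    (hcase : Fintype.card F = 3 ∨ (Fintype.card F = 4 ∧ Fintype.card Ω < 2 * (Fintype.card F ^ m - 1)))
    (hreg : ∀ x : Ω, ∃ t ∈ uStab F m x, t ≠ 0) (x : Ω) :
    ∃ w : Fin m → F, w ≠ 0 ∧ ∀ v, v ∈ uStab F m x ↔ v ⬝ᵥ w = 0 := by
  classical
  set q := Fintype.card F
  have hq : 2 ≤ q := Fintype.one_lt_card
  have hm := hS.hm
  have hpm : q ^ m = q ^ (m - 1) * q := by rw [← pow_succ]; congr 1; omega
  have hne : ∀ z : Ω, (∀ v, v ∈ uStab F m z) ∨
      ∃ w : Fin m → F, w ≠ 0 ∧ ∀ v, v ∈ uStab F m z ↔ v ⬝ᵥ w = 0 := by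
    intro z
    by_cases hall : ∀ v, v ∈ uStab F m z
    · exact Or.inl hall
    right
    have hcp := card_stab_mul_perp (m := m) (Ω := Ω) ψ hψ z
    obtain ⟨w, hw0, hw⟩ : ∃ w : Fin m → F, w ≠ 0 ∧ Perp (m := m) (Ω := Ω) ψ z w := by
      by_contra h
      simp only [not_exists, not_and] at h
      have h1 : (Finset.univ.filter fun w : Fin m → F => Perp ψ z w) = {0} := by
        ext w
        simp only [Finset.mem_filter, Finset.mem_univ, true_and, Finset.mem_singleton]
        exact ⟨fun hw => by_contra fun h0 => h w h0 hw, fun e => by subst e; intro v _; simp⟩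
      rw [h1, Finset.card_singleton, mul_one] at hcp
      have h2 : (Finset.univ.filter fun v => v ∈ uStab F m z) = Finset.univ :=
        Finset.eq_univ_of_card _ (by rw [hcp, Fintype.card_fun, Fintype.card_fin])
      exact hall fun v => (Finset.mem_filter.1 (h2 ▸ Finset.mem_univ v)).2
    refine ⟨w, hw0, ?_⟩
    have hperp : (Finset.univ.filter fun y : Fin m → F => Perp ψ z y) =
        Finset.univ.image fun c : F => c • w := by
      ext y
      simp only [Finset.mem_filter, Finset.mem_univ, true_and, Finset.mem_image]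
      constructor
      · intro hy
        obtain ⟨t, ht, ht0⟩ := hreg z
        obtain ⟨c, rfl⟩ := hS.block_line ψ hψ ht ht0 hw0 hw hy
        exact ⟨c, rfl⟩
      · rintro ⟨c, rfl⟩
        exact hS.line_full ψ hψ hcase hreg hw0 hw c
    rw [hperp, Finset.card_image_of_injective _ (smul_left_injective F hw0), Finset.card_univ] at hcp
    have hsub : (Finset.univ.filter fun v => v ∈ uStab F m z) ⊆
        Finset.univ.filter fun v : Fin m → F => v ⬝ᵥ w = 0 := by
      intro v hv
      simp only [Finset.mem_filter, Finset.mem_univ, true_and] at hv ⊢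
      by_contra h0
      have hne1 : ψ ≠ 1 := by simpa using hψ (one_ne_zero (α := F))
      obtain ⟨t, ht⟩ := AddChar.ne_one_iff.1 hne1
      apply ht
      have := hS.line_full ψ hψ hcase hreg hw0 hw (t / (v ⬝ᵥ w)) v hv
      rwa [dotProduct_smul, smul_eq_mul, div_mul_cancel₀ _ h0] at this
    have hh := card_hyperplane hw0
    rw [Nat.card_eq_fintype_card, Fintype.card_subtype] at hh
    have heq := Finset.eq_of_subset_of_card_le hsub (Nat.le_of_mul_le_mul_right
      (by rw [hh, hcp]) (show 0 < q by omega))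
    intro v
    have := congrArg (fun s => v ∈ s) heq
    simpa using this
  rcases hne x with hall | h
  swap
  · exact h
  exfalso
  -- a fixed point makes the set too large
  obtain ⟨hqd, hfix⟩ := hS.fix_data ψ hψ
  have hsmall : Fintype.card Ω < geo q (m + 1) := hS.small
  change q ^ m ≤ _ at hqd
  change ∀ v : Fin m → F, v ≠ 0 → _ + q ^ m = _ at hfix
  set A := (Finset.univ.filter fun z : Ω => ∀ v, v ∈ uStab F m z) with hA
  have hA1 : 1 ≤ A.card := Finset.card_pos.2 ⟨x, by rw [hA]; simpa using hall⟩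
  have hdc : ∑ z : Ω, (Finset.univ.filter fun v => v ∈ uStab F m z).card =
      Fintype.card Ω + (q ^ m - 1) * (Fintype.card Ω - q ^ m) := by
    simp only [Finset.card_filter]
    rw [Finset.sum_comm, ← Finset.add_sum_erase _ _ (Finset.mem_univ (0 : Fin m → F))]
    congr 1
    · simp [zero_mem, Finset.sum_boole]
    · rw [Finset.sum_congr rfl (g := fun _ => Fintype.card Ω - q ^ m) fun v hv => by
        rw [← Finset.card_filter, ← Fintype.card_subtype, ← Nat.card_eq_fintype_card]
        have := hfix v (Finset.ne_of_mem_erase hv)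
        simp only [mem_uStab]
        omega]
      simp [q]
  have hsplit : ∑ z : Ω, (Finset.univ.filter fun v => v ∈ uStab F m z).card =
      A.card * q ^ m + (Fintype.card Ω - A.card) * q ^ (m - 1) := by
    rw [← Finset.sum_filter_add_sum_filter_not Finset.univ (fun z : Ω => ∀ v, v ∈ uStab F m z)]
    congr 1
    · rw [hA, ← smul_eq_mul, ← Finset.sum_const]
      refine Finset.sum_congr rfl fun z hz => ?_
      rw [Finset.filter_true_of_mem fun v _ => (Finset.mem_filter.1 hz).2 v]
      simp [q]
    · rw [show Fintype.card Ω - A.card =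
        (Finset.univ.filter fun z : Ω => ¬ ∀ v, v ∈ uStab F m z).card from by
          rw [Finset.filter_not, Finset.card_sdiff, hA]; simp, ← smul_eq_mul, ← Finset.sum_const]
      refine Finset.sum_congr rfl fun z hz => ?_
      obtain ⟨w, hw0, hw⟩ := (hne z).resolve_left (Finset.mem_filter.1 hz).2
      have hh := card_hyperplane hw0
      rw [Nat.card_eq_fintype_card, Fintype.card_subtype] at hh
      simp only [hw]
      exact Nat.eq_of_mul_eq_mul_right (show 0 < q by omega) (hh.trans hpm)
  have hAle : A.card ≤ Fintype.card Ω := A.card_le_univ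
  have hgm := geo_mul_pred q m (by omega)
  have hg' := geo_succ' q m
  have hB : ((Fintype.card Ω : ℤ) - A.card) * ((q : ℤ) - 1) = (q * geo q m : ℤ) * ((q : ℤ) - 1) := by
    have e1 := hdc.symm.trans hsplit
    have h1 : 1 ≤ q ^ m := Nat.one_le_pow _ _ (by omega)
    zify [hqd, hAle, h1] at e1
    have e2 : ((q : ℤ)) ^ m = (q : ℤ) ^ (m - 1) * q := by exact_mod_cast hpm
    have e3 : (geo q m : ℤ) * ((q : ℤ) - 1) + 1 = (q : ℤ) ^ m := by
      have := congrArg (fun n : ℕ => (n : ℤ)) hgm
      push_cast [Nat.cast_sub (show 1 ≤ q by omega)] at this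
      exact this
    apply mul_left_cancel₀ (show ((q : ℤ)) ^ (m - 1) ≠ 0 from pow_ne_zero _ (by omega))
    linear_combination e1 - (q : ℤ) ^ (m - 1) * q * e3 +
      ((q : ℤ) ^ m - Fintype.card Ω + A.card - 1) * e2
  have hB' := mul_right_cancel₀ (show ((q : ℤ) - 1) ≠ 0 by omega) hB
  have : Fintype.card Ω = A.card + q * geo q m := by
    have : (Fintype.card Ω : ℤ) = (A.card + q * geo q m : ℕ) := by push_cast; linarith
    exact_mod_cast this
  omega

include hψ in
/-- With a regular orbit, every stabiliser is trivial or everything. -/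
theorem Small.full_of_regular (hS : Small F m Ω) {x : Ω} (hx : ∀ t ∈ uStab F m x, t = 0) (y : Ω) :
    (∀ t ∈ uStab F m y, t = 0) ∨ ∀ v, v ∈ uStab F m y := by
  classical
  obtain ⟨-, hfix⟩ := hS.fix_data ψ hψ
  set O : Finset Ω := Finset.univ.image fun v : Fin m → F => uSL (F := F) v • x with hO
  by_cases hy : y ∈ O
  · obtain ⟨a, -, rfl⟩ := Finset.mem_image.1 hy
    left
    rwa [uStab_smul]
  right
  intro v
  by_cases hv : v = 0
  · rw [hv]; exact zero_mem _
  have hOc : O.card = Fintype.card F ^ m := by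
    have h := orbit_mul_stab (F := F) (m := m) x
    have h1 : (Finset.univ.filter fun v => v ∈ uStab F m x) = {0} := by
      ext t
      simp only [Finset.mem_filter, Finset.mem_univ, true_and, Finset.mem_singleton]
      exact ⟨hx t, fun e => e ▸ zero_mem _⟩
    rwa [h1, Finset.card_singleton, mul_one] at h
  have hsub : (Finset.univ.filter fun z : Ω => uSL v • z = z) ⊆ Finset.univ \ O := by
    intro z hz
    refine Finset.mem_sdiff.2 ⟨Finset.mem_univ _, fun hzO => ?_⟩
    obtain ⟨a, -, rfl⟩ := Finset.mem_image.1 hzO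
    exact hv (hx v (by rw [← uStab_smul a x]; exact (Finset.mem_filter.1 hz).2))
  have heq := Finset.eq_of_subset_of_card_le hsub (by
    have := hfix v hv
    rw [Nat.card_eq_fintype_card, Fintype.card_subtype] at this
    rw [Finset.card_sdiff, Finset.inter_univ, Finset.card_univ, hOc]
    omega)
  have : y ∈ Finset.univ.filter fun z : Ω => uSL v • z = z := by
    rw [heq]; exact Finset.mem_sdiff.2 ⟨Finset.mem_univ _, hy⟩
  exact (Finset.mem_filter.1 this).2

end CfsgLib.LinDeg
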