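import Cfsg.Agent.Lib.LinDeg.Base

/-!
`SL_{m+1}` and `GL_{m+1}` as groups with a mirabolic subgroup.
-/

set_option autoImplicit false

namespace CfsgLib.LinDeg

open Module Matrix

variable {F : Type*} [Field F] [Fintype F] {m : ℕ}

/-- The structure on `SL_{m+1}`. -/
def slMirab (F : Type*) [Field F] (m : ℕ) :
    Mirab F m (Matrix.SpecialLinearGroup (Fin (m + 1)) F) where
  u := uSL
  L := levSL
  u_zero := uSL_zero
  u_add := uSL_add
  rel := levSL_mul_uSL

/-- The structure on `GL_{m+1}`. -/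
def glMirab (F : Type*) [Field F] (m : ℕ) : Mirab F m (GL (Fin (m + 1)) F) where
  u v := SpecialLinearGroup.toGL (uSL v)
  L := SpecialLinearGroup.toGL.comp levSL
  u_zero := by rw [uSL_zero, map_one]
  u_add a b := by rw [uSL_add, map_mul]
  rel M v := by
    show SpecialLinearGroup.toGL (levSL M) * _ = _ * SpecialLinearGroup.toGL (levSL M)
    rw [← map_mul, levSL_mul_uSL, map_mul]

theorem det_of_isTransv {n : ℕ} {A : Matrix (Fin n) (Fin n) F} (h : IsTransv A) : A.det = 1 := by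
  obtain ⟨p, φ, -, -, hd, rfl⟩ := h
  exact det_tGL p φ hd

theorem isConj_sl_iff (hn : 3 ≤ m + 1) {v : Fin m → F} (hv : v ≠ 0)
    (x : Matrix.SpecialLinearGroup (Fin (m + 1)) F) :
    IsConj (uSL v) x ↔ IsTransv x.1 := by
  refine ⟨fun h => ?_, fun h => IsTransv.isConj hn (uSL_isTransv hv) h⟩
  obtain ⟨c, rfl⟩ := isConj_iff.1 h
  have := (uSL_isTransv hv).conj (SpecialLinearGroup.toGL c)
  rwa [← map_inv] at this

theorem isConj_gl_iff (hn : 3 ≤ m + 1) {v : Fin m → F} (hv : v ≠ 0) (x : GL (Fin (m + 1)) F) :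
    IsConj (SpecialLinearGroup.toGL (uSL v)) x ↔ IsTransv x.1 := by
  refine ⟨fun h => ?_, fun h => ?_⟩
  · obtain ⟨c, rfl⟩ := isConj_iff.1 h
    exact (uSL_isTransv hv).conj c
  · set a : Matrix.SpecialLinearGroup (Fin (m + 1)) F := ⟨x.1, det_of_isTransv h⟩ with ha
    have hx : SpecialLinearGroup.toGL a = x := Units.ext rfl
    rw [← hx]
    obtain ⟨c, hc⟩ := isConj_iff.1 (IsTransv.isConj hn (uSL_isTransv hv) (b := a) h)
    exact isConj_iff.2 ⟨SpecialLinearGroup.toGL c, by rw [← hc, map_mul, map_mul, map_inv]⟩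

theorem card_transv (hm : 2 ≤ m) :
    Nat.card {A : Matrix (Fin (m + 1)) (Fin (m + 1)) F // IsTransv A} =
      geo (Fintype.card F) (m + 1) * (Fintype.card F ^ m - 1) := by
  have hq : 2 ≤ Fintype.card F := Fintype.one_lt_card
  refine Nat.eq_of_mul_eq_mul_right (show 0 < Fintype.card F - 1 by omega) ?_
  rw [card_isTransv (by omega), mul_right_comm]
  congr 1
  have := geo_mul_pred (Fintype.card F) (m + 1) (by omega)
  omega

theorem slMirab_classSize (hm : 2 ≤ m) : HasClassSize (slMirab F m) := fun v hv => by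
  rw [← card_transv hm]
  exact Nat.card_congr
    { toFun := fun x => ⟨x.1.1, (isConj_sl_iff (by omega) hv x.1).1 x.2⟩
      invFun := fun A => ⟨⟨A.1, det_of_isTransv A.2⟩, (isConj_sl_iff (by omega) hv _).2 A.2⟩
      left_inv := fun x => rfl
      right_inv := fun A => rfl }

theorem glMirab_classSize (hm : 2 ≤ m) : HasClassSize (glMirab F m) := fun v hv => by
  rw [← card_transv hm]
  exact Nat.card_congr
    { toFun := fun x => ⟨x.1.1, (isConj_gl_iff (by omega) hv x.1).1 x.2⟩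
      invFun := fun A => ⟨GeneralLinearGroup.mkOfDetNeZero A.1
        (by rw [det_of_isTransv A.2]; exact one_ne_zero), (isConj_gl_iff (by omega) hv _).2 A.2⟩
      left_inv := fun x => Subtype.ext (Units.ext rfl)
      right_inv := fun A => rfl }

theorem slMirab_oneClass (hm : 2 ≤ m) : HasOneClass (slMirab F m) := fun v hv _u _φ h hu hφ =>
  (isConj_sl_iff (by omega) hv _).2 (levSL_isTransv h hu hφ)

theorem glMirab_oneClass (hm : 2 ≤ m) : HasOneClass (glMirab F m) := fun v hv _u _φ h hu hφ =>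
  (isConj_gl_iff (by omega) hv _).2 (levSL_isTransv h hu hφ)

/-- The lower unipotent elements. -/
def lSL (v : Fin m → F) : Matrix.SpecialLinearGroup (Fin (m + 1)) F :=
  ⟨(uMat v)ᵀ, by rw [det_transpose, det_uMat]⟩

theorem lSL_zero : lSL (0 : Fin m → F) = 1 :=
  Subtype.ext (by show (uMat _)ᵀ = _; rw [uMat_zero, transpose_one]; rfl)

theorem lSL_add (a b : Fin m → F) : lSL (a + b) = lSL a * lSL b :=
  Subtype.ext (by
    show (uMat _)ᵀ = (uMat a)ᵀ * (uMat b)ᵀ
    rw [add_comm a b, uMat_add, transpose_mul])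

theorem lSL_rel (v ω : Fin m → F) (h : ω ⬝ᵥ v = 0) :
    lSL v * uSL ω * (lSL v)⁻¹ = uSL ω * levSL (tGL v ω h) := by
  rw [mul_inv_eq_iff_eq_mul]
  apply Subtype.ext
  show (uMat v)ᵀ * uMat ω = uMat ω * levMat ((tGL v ω h).1.det)⁻¹ (tGL v ω h).1 * (uMat v)ᵀ
  rw [det_tGL, inv_one]
  have e : (uMat v)ᵀ = bl (fromBlocks 1 0 (row1 v)ᵀ 1) := by
    show (Matrix.reindexAlgEquiv F F (blockEquiv m) _)ᵀ = Matrix.reindexAlgEquiv F F (blockEquiv m) _
    simp [Matrix.reindexAlgEquiv_apply, transpose_submatrix, fromBlocks_transpose]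
  rw [e, uMat, levMat, cor1_one, ← map_mul, ← map_mul, ← map_mul, fromBlocks_multiply,
    fromBlocks_multiply, fromBlocks_multiply]
  simp only [Matrix.one_mul, Matrix.mul_one, Matrix.zero_mul, Matrix.mul_zero, add_zero, zero_add]
  have h1 : row1 v = replicateRow Unit v := rfl
  have h2 : ((row1 v)ᵀ * row1 ω : Matrix (Fin m) (Fin m) F) = vecMulVec v ω := by
    ext i j; simp [row1, Matrix.mul_apply, vecMulVec_apply]
  have h3 : row1 ω * (tGL v ω h).1 = row1 ω := by
    rw [row1_mul]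
    show row1 (ω ᵥ* (1 + vecMulVec v ω)) = _
    rw [vecMul_add, vecMul_one, vecMul_vecMulVec, h, zero_smul, add_zero]
  have h4 : (tGL v ω h).1 * (row1 v)ᵀ = (row1 v)ᵀ + vecMulVec v ω * (row1 v)ᵀ := by
    show ((1 : Matrix (Fin m) (Fin m) F) + vecMulVec v ω) * (row1 v)ᵀ = _
    rw [Matrix.add_mul, Matrix.one_mul]
  have h5 : vecMulVec v ω * (row1 v)ᵀ = 0 := by
    ext i j
    have : ∑ x, ω x * v x = 0 := h
    simp [row1, Matrix.mul_apply, vecMulVec_apply, mul_assoc, ← Finset.mul_sum, this]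
  have h6 : row1 ω * (row1 v)ᵀ = 0 := by
    ext i j
    have : ∑ x, ω x * v x = 0 := h
    simp [row1, Matrix.mul_apply, this]
  congr 1
  rw [h3, h6, h4, h5, h2, add_zero, add_zero]
  show _ = fromBlocks _ _ _ (1 + vecMulVec v ω)
  rw [add_comm 1 (vecMulVec v ω)]

end CfsgLib.LinDeg
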