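import Cfsg.Agent.Lib.LinDeg.Hyperplanes
import Cfsg.Agent.Lib.AutPSL.Root
import Cfsg.Agent.Lib.SLGen.Criterion

/-!
There is no small set with a non-trivial action of `SL_{m+1}`: transport of the stabilisers in the
radical to arbitrary transvections.
-/

set_option autoImplicit false
set_option linter.unusedSectionVars false

namespace CfsgLib.LinDeg

open Module Matrix

variable {F : Type*} [Field F] [Fintype F] {m : ℕ} {Ω : Type*} [Fintype Ω]
  [MulAction (Matrix.SpecialLinearGroup (Fin (m + 1)) F) Ω]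

theorem uSL_eq_tv (v : Fin m → F) :
    uSL v = AutPSL.tv (Pi.single 0 1) (Fin.cons 0 v) (by simp) := by
  apply Subtype.ext
  show uMat v = AutPSL.rk1 _ _
  ext i j
  induction i using Fin.cases <;> induction j using Fin.cases <;>
    simp [uMat, bl, blockEquiv, row1, AutPSL.rk1, vecMulVec_apply, Matrix.one_apply] <;>
    exact (Fin.succ_ne_zero _).symm

theorem cons_dot_cons (u φ : Fin m → F) (h : φ ⬝ᵥ u = 0) (c : F) :
    (Fin.cons 0 φ : Fin (m + 1) → F) ⬝ᵥ (Fin.cons c u) = 0 := by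
  simpa [dotProduct, Fin.sum_univ_succ] using h

theorem levSL_eq_tv (u φ : Fin m → F) (h : φ ⬝ᵥ u = 0) :
    levSL (tGL u φ h) = AutPSL.tv (Fin.cons 0 u) (Fin.cons 0 φ) (cons_dot_cons u φ h 0) := by
  apply Subtype.ext
  show levMat _ _ = AutPSL.rk1 _ _
  rw [det_tGL, inv_one]
  ext i j
  induction i using Fin.cases <;> induction j using Fin.cases <;>
    simp [levMat, cor1, bl, blockEquiv, tGL, AutPSL.rk1, vecMulVec_apply, Matrix.one_apply] <;>
    exact (Fin.succ_ne_zero _).symm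

theorem uSL_mul_levSL_eq_tv (u φ : Fin m → F) (h : φ ⬝ᵥ u = 0) (c : F) :
    uSL (c • φ) * levSL (tGL u φ h) =
      AutPSL.tv (Fin.cons c u) (Fin.cons 0 φ) (cons_dot_cons u φ h c) := by
  have h1 : (Fin.cons 0 φ : Fin (m + 1) → F) ⬝ᵥ (c • Pi.single 0 1) = 0 := by simp
  have e : uSL (c • φ) = AutPSL.tv (c • Pi.single 0 1) (Fin.cons 0 φ) h1 := by
    rw [uSL_eq_tv]
    refine AutPSL.tv_congr _ _ ?_
    rw [smul_vecMulVec, ← vecMulVec_smul]
    congr 1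
    ext i
    induction i using Fin.cases <;> simp
  rw [e, levSL_eq_tv, AutPSL.tv_mul']
  refine AutPSL.tv_congr _ _ ?_
  congr 1
  ext i
  induction i using Fin.cases <;> simp

/-- The transvection with centre `p` and axis `φ` fixes `x`. -/
def Fix (x : Ω) (p φ : Fin (m + 1) → F) : Prop := ∃ h : φ ⬝ᵥ p = 0, AutPSL.tv p φ h • x = x

theorem fix_e0 {x : Ω} {φ : Fin (m + 1) → F} :
    Fix x (Pi.single 0 1) φ ↔ φ 0 = 0 ∧ Fin.tail φ ∈ uStab F m x := by
  have key : φ 0 = 0 → φ = Fin.cons 0 (Fin.tail φ) := fun h => by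
    rw [← h, Fin.cons_self_tail]
  constructor
  · rintro ⟨h, hx⟩
    have h0 : φ 0 = 0 := by simpa using h
    refine ⟨h0, ?_⟩
    rw [mem_uStab, uSL_eq_tv]
    convert hx using 3
    exact (key h0).symm
  · rintro ⟨h0, hx⟩
    refine ⟨by simpa using h0, ?_⟩
    rw [mem_uStab, uSL_eq_tv] at hx
    convert hx using 3
    exact key h0

theorem conj_tv (g : Matrix.SpecialLinearGroup (Fin (m + 1)) F) (p φ : Fin (m + 1) → F)
    (h : φ ⬝ᵥ p = 0) (h' : (φ ᵥ* (g⁻¹).1) ⬝ᵥ (g.1 *ᵥ p) = 0) :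
    g * AutPSL.tv p φ h * g⁻¹ = AutPSL.tv (g.1 *ᵥ p) (φ ᵥ* (g⁻¹).1) h' := by
  apply Subtype.ext
  show g.1 * AutPSL.rk1 p φ * (g⁻¹).1 = AutPSL.rk1 _ _
  have hg : g.1 * (g⁻¹).1 = 1 := by
    rw [← Matrix.SpecialLinearGroup.coe_mul, mul_inv_cancel, Matrix.SpecialLinearGroup.coe_one]
  rw [AutPSL.rk1, mul_add, add_mul, mul_one, hg, mul_vecMulVec, vecMulVec_mul, AutPSL.rk1]

theorem dot_conj_sl (g : Matrix.SpecialLinearGroup (Fin (m + 1)) F) (p φ : Fin (m + 1) → F) :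
    (φ ᵥ* (g⁻¹).1) ⬝ᵥ (g.1 *ᵥ p) = φ ⬝ᵥ p := by
  rw [← dotProduct_mulVec, mulVec_mulVec, ← Matrix.SpecialLinearGroup.coe_mul, inv_mul_cancel,
    Matrix.SpecialLinearGroup.coe_one, one_mulVec]

theorem fix_smul {x : Ω} (g : Matrix.SpecialLinearGroup (Fin (m + 1)) F) {p φ : Fin (m + 1) → F}
    (h : Fix x p φ) : Fix (g • x) (g.1 *ᵥ p) (φ ᵥ* (g⁻¹).1) := by
  obtain ⟨h0, hx⟩ := h
  refine ⟨by rw [dot_conj_sl, h0], ?_⟩
  rw [← conj_tv g p φ h0, ← mul_smul, inv_mul_cancel_right, mul_smul, hx]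

/-- Moving a centre to the first basis vector. -/
theorem exists_frame (hm : 2 ≤ m) {p : Fin (m + 1) → F} (hp : p ≠ 0) :
    ∃ g : Matrix.SpecialLinearGroup (Fin (m + 1)) F, g.1 *ᵥ Pi.single 0 1 = p ∧
      ∀ (x : Ω) (φ : Fin (m + 1) → F),
        Fix x p φ ↔ (φ ᵥ* g.1) 0 = 0 ∧ Fin.tail (φ ᵥ* g.1) ∈ uStab F m (g⁻¹ • x) := by
  obtain ⟨M, hM, hMp⟩ := exists_det_one_mulVec (show 2 ≤ m + 1 by omega)
    (w := Pi.single (0 : Fin (m + 1)) (1 : F)) (by simp) hp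
  let g : Matrix.SpecialLinearGroup (Fin (m + 1)) F := ⟨M.1, hM⟩
  have hg : g.1 *ᵥ Pi.single 0 1 = p := hMp
  refine ⟨g, hg, fun x φ => ?_⟩
  rw [← fix_e0]
  constructor
  · intro h
    have h1 := fix_smul g⁻¹ h
    rwa [inv_inv, ← hg, mulVec_mulVec, ← Matrix.SpecialLinearGroup.coe_mul, inv_mul_cancel,
      Matrix.SpecialLinearGroup.coe_one, one_mulVec] at h1
  · intro h
    have h1 := fix_smul g h
    rwa [smul_inv_smul, hg, vecMul_vecMul, ← Matrix.SpecialLinearGroup.coe_mul, mul_inv_cancel,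
      Matrix.SpecialLinearGroup.coe_one, vecMul_one] at h1

theorem Fix.sub {x : Ω} {p a b : Fin (m + 1) → F} (ha : Fix x p a) (hb : Fix x p b) :
    Fix x p (a - b) := by
  obtain ⟨h1, ha⟩ := ha
  obtain ⟨h2, hb⟩ := hb
  have h3 : (a - b) ⬝ᵥ p = 0 := by rw [sub_dotProduct, h1, h2, sub_zero]
  refine ⟨h3, ?_⟩
  conv_lhs => rw [← hb]
  rw [← mul_smul, AutPSL.tv_mul h3 h2]
  simpa using ha

theorem Fix.conj {x : Ω} {p φ p' φ' : Fin (m + 1) → F} (h : Fix x p φ) (h' : Fix x p' φ')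
    (h0 : φ ⬝ᵥ p' = 0) : Fix x p' (φ' - (φ' ⬝ᵥ p) • φ) := by
  obtain ⟨hd, hx⟩ := h
  have h1 := fix_smul (AutPSL.tv p φ hd) h'
  rw [hx] at h1
  have hd' : φ ⬝ᵥ (-p) = 0 := by rw [dotProduct_neg, hd, neg_zero]
  have e : (AutPSL.tv p φ hd)⁻¹ = AutPSL.tv (-p) φ hd' := by
    refine inv_eq_of_mul_eq_one_right ?_
    rw [AutPSL.tv_mul']
    exact AutPSL.tv_eq_one _ (by simp)
  rw [e] at h1
  convert h1 using 1
  · simp [AutPSL.rk1, add_mulVec, vecMulVec_mulVec, h0]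
  · simp only [AutPSL.tv_val, AutPSL.rk1, vecMul_add, vecMul_one, vecMul_vecMulVec, dotProduct_neg,
      neg_smul]
    rw [sub_eq_add_neg]

/-- A point fixed by a root group and all transvections of the Levi factor. -/
theorem Small.not_fixed_all (hS : Small F m Ω) {y : Ω}
    (h : ∀ i j : Fin (m + 1), i ≠ j → ∀ t : F, Fix y (t • (AutPSL.ev i : Fin (m + 1) → F)) (AutPSL.ev j)) : False := by
  have hm := hS.hm
  haveI := hS.trans
  have hX : ∀ {i j : Fin (m + 1)} {t : F}, i ≠ j →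
      SLGen.XMem (MulAction.stabilizer (Matrix.SpecialLinearGroup (Fin (m + 1)) F) y) i j t := by
    intro i j t hij
    obtain ⟨hd, hf⟩ := h i j hij t
    exact ⟨hd, AutPSL.tv _ _ hd, hf, rfl⟩
  obtain ⟨ω, hω⟩ := exists_subring_gen (F := F)
  have htop := SLGen.eq_top_of_xmem (show 3 ≤ m + 1 by omega) (fun i j hij => hX hij) hω
    (a := ⟨0, by omega⟩) (b := ⟨1, by omega⟩) (by simp) (hX (by simp))
  have hfix : ∀ g : Matrix.SpecialLinearGroup (Fin (m + 1)) F, g • y = y := fun g =>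
    MulAction.mem_stabilizer_iff.1 (htop ▸ Subgroup.mem_top g)
  obtain ⟨x, hx⟩ := hS.moved _ (uSL_isTransv
    (show (fun _ => 1 : Fin m → F) ≠ 0 from fun e => one_ne_zero (congrFun e ⟨0, by omega⟩)))
  obtain ⟨c, rfl⟩ := MulAction.exists_smul_eq (Matrix.SpecialLinearGroup (Fin (m + 1)) F) y x
  exact hx (by rw [hfix, hfix])

theorem no_fix (hS : Small F m Ω)
    (hdi : ∀ y : Ω, (∀ t ∈ uStab F m y, t = 0) ∨ ∀ v, v ∈ uStab F m y)
    (hlev : ∀ y : Ω, (∀ v, v ∈ uStab F m y) →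
      ∀ (u φ : Fin m → F) (h : φ ⬝ᵥ u = 0), levSL (tGL u φ h) • y = y)
    {y : Ω} {p φ : Fin (m + 1) → F} (hp : p ≠ 0) (hφ : φ ≠ 0) : ¬ Fix y p φ := by
  have hm := hS.hm
  have spread : ∀ {y : Ω} {p φ : Fin (m + 1) → F}, p ≠ 0 → φ ≠ 0 → Fix y p φ →
      ∃ g : Matrix.SpecialLinearGroup (Fin (m + 1)) F, g.1 *ᵥ Pi.single 0 1 = p ∧
        (∀ v, v ∈ uStab F m (g⁻¹ • y)) ∧ ∀ φ', φ' ⬝ᵥ p = 0 → Fix y p φ' := by
    intro y p φ hp hφ h
    obtain ⟨g, hg, hiff⟩ := exists_frame (Ω := Ω) hm hp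
    obtain ⟨h0, ht⟩ := (hiff y φ).1 h
    have hne : φ ᵥ* g.1 ≠ 0 := fun e => hφ (by
      have e' : (φ ᵥ* g.1) ᵥ* (g⁻¹).1 = 0 ᵥ* (g⁻¹).1 := by rw [e]
      rwa [vecMul_vecMul, ← Matrix.SpecialLinearGroup.coe_mul, mul_inv_cancel,
        Matrix.SpecialLinearGroup.coe_one, vecMul_one, zero_vecMul] at e')
    have htail : Fin.tail (φ ᵥ* g.1) ≠ 0 := fun e => hne (by
      funext i
      induction i using Fin.cases with
      | zero => exact h0
      | succ i => exact congrFun e i)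
    have hfull := (hdi (g⁻¹ • y)).resolve_left fun hz => htail (hz _ ht)
    refine ⟨g, hg, hfull, fun φ' hφ' => (hiff y φ').2 ⟨?_, hfull _⟩⟩
    rw [← hg, dotProduct_mulVec] at hφ'
    simpa using hφ'
  have nofull : ∀ y : Ω, ¬ ∀ v, v ∈ uStab F m y := by
    intro y hy
    refine hS.not_fixed_all (y := y) fun i j hij t => ?_
    by_cases ht : t = 0
    · exact ⟨by rw [ht, zero_smul, dotProduct_zero], by rw [AutPSL.tv_eq_one _ (by simp [ht]), one_smul]⟩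
    have hd : AutPSL.ev j ⬝ᵥ (t • (AutPSL.ev i : Fin (m + 1) → F)) = 0 := by
      rw [dotProduct_smul, AutPSL.ev_dot hij, smul_zero]
    induction i using Fin.cases with
    | zero =>
      have h0 : Fix y (Pi.single 0 (1 : F)) (t • (AutPSL.ev j : Fin (m + 1) → F)) := fix_e0.2
        ⟨by simp [AutPSL.ev, hij], hy _⟩
      obtain ⟨h', hx⟩ := h0
      refine ⟨hd, ?_⟩
      rwa [AutPSL.tv_congr hd h' (by rw [vecMulVec_smul, smul_vecMulVec]; rfl)]
    | succ i =>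
      set u : Fin m → F := t • Pi.single i 1
      have hu : u ≠ 0 := smul_ne_zero ht (by simp)
      obtain ⟨k, hk⟩ : ∃ k : Fin m, k ≠ i := Fintype.exists_ne_of_one_lt_card (by simp; omega) i
      have hku : (Pi.single k (1 : F) : Fin m → F) ⬝ᵥ u = 0 := by simp [u, hk]
      have hf : Fix y (Fin.cons 0 u) (Fin.cons 0 (Pi.single k 1)) :=
        ⟨_, by rw [← levSL_eq_tv _ _ hku]; exact hlev y hy _ _ _⟩
      have hpu : (Fin.cons 0 u : Fin (m + 1) → F) = t • AutPSL.ev i.succ := by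
        funext a
        induction a using Fin.cases <;>
          simp [u, AutPSL.ev, Pi.single_apply, Fin.succ_inj, (Fin.succ_ne_zero i).symm]
      rw [hpu] at hf
      obtain ⟨g, -, -, hall⟩ := spread (smul_ne_zero ht (AutPSL.ev_ne_zero _))
        (fun e => one_ne_zero (α := F) (by simpa using congrFun e k.succ)) hf
      exact hall _ hd
  intro h
  obtain ⟨g, -, hfull, -⟩ := spread hp hφ h
  exact nofull _ hfull

end CfsgLib.LinDeg
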