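import Cfsg.Agent.Lib.LinDeg.MinIndexRegular

/-!
Hyperplane stabilisers at every point are impossible, and the bound on non-trivial actions of
`SL_{m+1}`.
-/

set_option autoImplicit false
set_option linter.unusedSectionVars false

namespace CfsgLib.LinDeg

open Module Matrix

section planes

variable {F : Type*} [Field F] [Fintype F] {m : ℕ} {Ω : Type*} [Fintype Ω]
  [MulAction (Matrix.SpecialLinearGroup (Fin (m + 1)) F) Ω]

theorem exists_plane (hm : 2 ≤ m) (hhyp : ∀ y : Ω, ∃ w : Fin m → F, w ≠ 0 ∧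
      ∀ v, v ∈ uStab F m y ↔ v ⬝ᵥ w = 0) (x : Ω) {p : Fin (m + 1) → F} (hp : p ≠ 0) :
    ∃ r : Fin (m + 1) → F, (∀ c : F, r ≠ c • p) ∧ ∀ φ, Fix x p φ ↔ φ ⬝ᵥ p = 0 ∧ φ ⬝ᵥ r = 0 := by
  obtain ⟨g, hg, hiff⟩ := exists_frame (Ω := Ω) hm hp
  obtain ⟨w, hw0, hw⟩ := hhyp (g⁻¹ • x)
  refine ⟨g.1 *ᵥ Fin.cons 0 w, fun c h => hw0 ?_, fun φ => ?_⟩
  · rw [← hg, ← mulVec_smul] at h
    have h2 := congrArg ((g⁻¹).1 *ᵥ ·) h
    simp only [mulVec_mulVec, ← Matrix.SpecialLinearGroup.coe_mul, inv_mul_cancel,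
      Matrix.SpecialLinearGroup.coe_one, one_mulVec] at h2
    funext i
    simpa [Fin.succ_ne_zero] using congrFun h2 i.succ
  · rw [hiff, hw, ← hg, dotProduct_mulVec, dotProduct_mulVec]
    simp only [dotProduct_single, mul_one]
    constructor
    · rintro ⟨h0, h1⟩
      refine ⟨h0, ?_⟩
      simpa [dotProduct, Fin.sum_univ_succ, h0, Fin.tail] using h1
    · rintro ⟨h0, h1⟩
      refine ⟨h0, ?_⟩
      simpa [dotProduct, Fin.sum_univ_succ, h0, Fin.tail] using h1

theorem mem_span_of_dual {n : ℕ} {s : Set (Fin n → F)} {y : Fin n → F}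
    (h : ∀ φ : Fin n → F, (∀ z ∈ s, φ ⬝ᵥ z = 0) → φ ⬝ᵥ y = 0) : y ∈ Submodule.span F s := by
  by_contra hy
  obtain ⟨φ, hφ, hφy⟩ := exists_dual_ne_zero s hy
  exact one_ne_zero (hφy.symm.trans (h φ hφ))

theorem no_planes [Nonempty Ω] (hm : 2 ≤ m) (hhyp : ∀ y : Ω, ∃ w : Fin m → F, w ≠ 0 ∧
      ∀ v, v ∈ uStab F m y ↔ v ⬝ᵥ w = 0) : False := by
  classical
  obtain ⟨x⟩ := ‹Nonempty Ω›
  choose r hr hfix using fun (p : Fin (m + 1) → F) (hp : p ≠ 0) => exists_plane hm hhyp x hp
  let W : ∀ p : Fin (m + 1) → F, p ≠ 0 → Submodule F (Fin (m + 1) → F) :=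
    fun p hp => Submodule.span F {p, r p hp}
  have hfixW : ∀ p hp φ, Fix x p φ ↔ ∀ z ∈ W p hp, φ ⬝ᵥ z = 0 := by
    intro p hp φ
    rw [hfix p hp]
    refine ⟨fun ⟨h1, h2⟩ z hz => ?_, fun h => ⟨h p (Submodule.subset_span (by simp)),
      h _ (Submodule.subset_span (by simp))⟩⟩
    obtain ⟨a, b, rfl⟩ := Submodule.mem_span_pair.1 hz
    rw [dotProduct_add, dotProduct_smul, dotProduct_smul, h1, h2, smul_zero, smul_zero, add_zero]
  have hdim : ∀ p hp, finrank F (W p hp) = 2 := by
    intro p hp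
    have hli : LinearIndependent F ![p, r p hp] := by
      rw [LinearIndependent.pair_iff' hp]
      exact fun c => fun e => hr p hp c e.symm
    have := finrank_span_eq_card hli
    rw [Matrix.range_cons, Matrix.range_cons, Matrix.range_empty, Set.union_empty,
      Set.singleton_union] at this
    simpa using this
  -- the key property from commutators
  have K : ∀ p hp p' hp', p ∈ W p' hp' ∨
      r p' hp' ∈ Submodule.span F ({p, r p hp, p'} : Set (Fin (m + 1) → F)) := by
    intro p hp p' hp'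
    by_contra h
    simp only [not_or] at h
    obtain ⟨h1, h2⟩ := h
    obtain ⟨φ, hφ, hφr⟩ := exists_dual_ne_zero _ h2
    obtain ⟨φ', hφ', hφp⟩ := exists_dual_ne_zero {p', r p' hp'} (x := p) h1
    have e1 : Fix x p φ := (hfix p hp φ).2 ⟨hφ p (by simp), hφ _ (by simp)⟩
    have e2 : Fix x p' φ' := (hfix p' hp' φ').2 ⟨hφ' p' (by simp), hφ' _ (by simp)⟩
    have e3 := ((hfix p' hp' _).1 (e1.conj e2 (hφ p' (by simp)))).2
    rw [sub_dotProduct, smul_dotProduct, hφp, hφr, hφ' _ (by simp), smul_eq_mul] at e3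
    simp at e3
  have hmul : ∀ p hp (c : F) (hc : c • p ≠ 0), W (c • p) hc = W p hp := by
    intro p hp c hc
    have hc0 : c ≠ 0 := fun e => hc (by rw [e, zero_smul])
    symm
    refine Submodule.eq_of_le_of_finrank_eq (fun z hz => mem_span_of_dual fun φ hφ => ?_)
      (by rw [hdim, hdim])
    obtain ⟨h0, hx⟩ : Fix x (c • p) φ := (hfixW _ hc φ).2 fun z hz => by
      obtain ⟨a, b, rfl⟩ := Submodule.mem_span_pair.1 hz
      rw [dotProduct_add, dotProduct_smul a, dotProduct_smul b, hφ (c • p) (Or.inl rfl), hφ (r (c • p) hc) (Or.inr rfl),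
        smul_zero, smul_zero, add_zero]
    have h1 : φ ⬝ᵥ p = 0 := by
      rw [dotProduct_smul, smul_eq_mul] at h0
      exact (mul_eq_zero.1 h0).resolve_left hc0
    have h2 : Fix x p (c • φ) := ⟨by rw [smul_dotProduct, h1, smul_zero], by
      rwa [AutPSL.tv_congr _ h0 (by rw [vecMulVec_smul, smul_vecMulVec])]⟩
    have h3 := (hfixW p hp _).1 h2 z hz
    rw [smul_dotProduct, smul_eq_mul] at h3
    exact (mul_eq_zero.1 h3).resolve_left hc0
  -- a line is the line of each of its points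
  have hsame : ∀ p hp q hq, q ∈ W p hp → W q hq = W p hp := by
    intro p hp q hq hqW
    by_cases hc : ∃ c : F, q = c • p
    · obtain ⟨c, rfl⟩ := hc
      exact hmul p hp c hq
    simp only [not_exists] at hc
    rcases K p hp q hq with h | h
    · have hli : LinearIndependent F ![p, q] := by
        rw [LinearIndependent.pair_iff' hp]
        exact fun c e => hc c e.symm
      have h2 : finrank F (Submodule.span F ({p, q} : Set (Fin (m + 1) → F))) = 2 := by
        have := finrank_span_eq_card hli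
        rw [Matrix.range_cons, Matrix.range_cons, Matrix.range_empty, Set.union_empty,
          Set.singleton_union] at this
        simpa using this
      have e1 : Submodule.span F ({p, q} : Set (Fin (m + 1) → F)) = W p hp :=
        Submodule.eq_of_le_of_finrank_eq (Submodule.span_le.2 (Set.insert_subset
          (Submodule.subset_span (by simp)) (Set.singleton_subset_iff.2 hqW))) (by rw [h2, hdim])
      have e2 : Submodule.span F ({p, q} : Set (Fin (m + 1) → F)) = W q hq :=
        Submodule.eq_of_le_of_finrank_eq (Submodule.span_le.2 (Set.insert_subset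
          h (Set.singleton_subset_iff.2 (Submodule.subset_span (by simp))))) (by rw [h2, hdim])
      rw [← e1, e2]
    · refine Submodule.eq_of_le_of_finrank_eq (Submodule.span_le.2 (Set.insert_subset hqW
        (Set.singleton_subset_iff.2 ?_))) (by rw [hdim, hdim])
      refine Submodule.span_le.2 ?_ h
      exact Set.insert_subset (Submodule.subset_span (by simp)) (Set.insert_subset
        (Submodule.subset_span (by simp)) (Set.singleton_subset_iff.2 hqW))
  obtain ⟨p, hp⟩ : ∃ p : Fin (m + 1) → F, p ≠ 0 := ⟨Pi.single 0 1, by simp⟩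
  obtain ⟨q, hqW⟩ : ∃ q, q ∉ W p hp := by
    by_contra h
    simp only [not_exists, not_not] at h
    have := hdim p hp
    rw [Submodule.eq_top_iff'.2 h, finrank_top, Module.finrank_fin_fun] at this
    omega
  have hq : q ≠ 0 := fun e => hqW (e ▸ zero_mem _)
  have hpW : p ∈ W p hp := Submodule.subset_span (by simp)
  have hqq : q ∈ W q hq := Submodule.subset_span (by simp)
  rcases K p hp q hq with h | h
  · exact hqW (hsame q hq p hp h ▸ hqq)
  obtain ⟨a, z, hz, he⟩ := Submodule.mem_span_insert.1 h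
  obtain ⟨b, c, rfl⟩ := Submodule.mem_span_pair.1 hz
  set z := a • p + b • r p hp with hz'
  have hzW : z ∈ W p hp :=
    add_mem (Submodule.smul_mem _ _ hpW) (Submodule.smul_mem _ _ (Submodule.subset_span (by simp)))
  have hz0 : z ≠ 0 := fun e => hr q hq c (by rw [he, ← add_assoc, ← hz', e, zero_add])
  have hzq : z ∈ W q hq := by
    have e : z = r q hq - c • q := by rw [he, hz']; abel
    rw [e]
    exact sub_mem (Submodule.subset_span (by simp)) (Submodule.smul_mem _ _ hqq)
  have e1 := hsame p hp z hz0 hzW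
  have e2 := hsame q hq z hz0 hzq
  rw [← e1, e2] at hqW
  exact hqW hqq

end planes

theorem exists_factors_two : ∃ a b : Matrix.SpecialLinearGroup (Fin 3) (ZMod 2),
    a ^ 7 = 1 ∧ b ^ 7 = 1 ∧ (a * b).1 = 1 + vecMulVec (Pi.single 1 1) (Pi.single 0 1) :=
  ⟨⟨!![0, 1, 0; 0, 1, 1; 1, 0, 1], by decide +kernel⟩, ⟨!![0, 1, 1; 1, 0, 0; 0, 1, 0], by decide +kernel⟩,
    Subtype.ext (by show (!![0, 1, 0; 0, 1, 1; 1, 0, 1] : Matrix (Fin 3) (Fin 3) (ZMod 2)) ^ 7 = 1; decide +kernel),
    Subtype.ext (by show (!![0, 1, 1; 1, 0, 0; 0, 1, 0] : Matrix (Fin 3) (Fin 3) (ZMod 2)) ^ 7 = 1; decide +kernel),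
    by
      show (!![0, 1, 0; 0, 1, 1; 1, 0, 1] : Matrix (Fin 3) (Fin 3) (ZMod 2)) *
        !![0, 1, 1; 1, 0, 0; 0, 1, 0] = _
      decide +kernel⟩

/-- A non-trivial transitive action of `SL_{m+1}` has at least as many points as the projective space. -/
theorem card_le_action {F : Type*} [Field F] [Fintype F] {m : ℕ} {Ω : Type*} [Fintype Ω]
    [MulAction (Matrix.SpecialLinearGroup (Fin (m + 1)) F) Ω] (hm : 2 ≤ m)
    [htr : MulAction.IsPretransitive (Matrix.SpecialLinearGroup (Fin (m + 1)) F) Ω]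
    (hne : ∃ (g : Matrix.SpecialLinearGroup (Fin (m + 1)) F) (x : Ω), g • x ≠ x)
    (hexc : ¬ (Fintype.card F = 2 ∧ m = 3)) : geo (Fintype.card F) (m + 1) ≤ Fintype.card Ω := by
  classical
  by_contra hsmall
  rw [not_le] at hsmall
  by_cases c2 : Fintype.card F = 2 ∧ m ≤ 3
  · obtain ⟨hq, hm3⟩ := c2
    have hm2 : m = 2 := by
      rcases Nat.lt_or_ge m 3 with h | h
      · omega
      · exact absurd ⟨hq, by omega⟩ hexc
    subst hm2
    haveI : Fact (Nat.Prime 2) := ⟨Nat.prime_two⟩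
    let e : ZMod 2 ≃+* F := ZMod.ringEquivOfPrime F Nat.prime_two hq
    let f : Matrix.SpecialLinearGroup (Fin (2 + 1)) (ZMod 2) →* Matrix.SpecialLinearGroup (Fin (2 + 1)) F :=
      Matrix.SpecialLinearGroup.map e.toRingHom
    obtain ⟨a, b, ha, hb, hab⟩ := exists_factors_two
    have h7 : Fintype.card Ω < 7 := by
      have : geo (Fintype.card F) (2 + 1) = 7 := by rw [hq]; rfl
      omega
    have hT : IsTransv (f a * f b).1 := by
      refine ⟨Pi.single 1 1, Pi.single 0 1, by simp, by simp, by simp, ?_⟩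
      rw [← map_mul]
      ext i j
      show e ((a * b).1 i j) = _
      rw [hab]
      fin_cases i <;> fin_cases j <;> simp [vecMulVec_apply]
    obtain ⟨x, hx⟩ := exists_moved hm hne hT
    exact hx (smul_eq_of_large_prime (show Nat.Prime 7 by norm_num) h7
      (by rw [← map_pow, ha, map_one]) (by rw [← map_pow, hb, map_one]) x)
  by_cases c3 : Fintype.card F = 3 ∧ m = 3
  swap
  by_cases c4 : Fintype.card F = 4 ∧ m = 2
  swap
  · exact absurd (card_le_action_generic hm hne c2 c3 c4) (not_le.2 hsmall)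
  all_goals
    have hS : Small F m Ω := ⟨hm, htr, fun a ha => exists_moved hm hne ha, hsmall⟩
    let ψ := AddChar.FiniteField.primitiveChar_to_Complex F
    have hψ : ψ.IsPrimitive := AddChar.FiniteField.primitiveChar_to_Complex_isPrimitive F
    by_cases hreg : ∃ x : Ω, ∀ t ∈ uStab F m x, t = 0
  · obtain ⟨x, hx⟩ := hreg
    obtain ⟨h4, rfl⟩ := c4
    exact no_regular_four ψ hψ h4 hS hx
  · obtain ⟨h4, rfl⟩ := c4
    simp only [not_exists, not_forall] at hreg
    have hcase : Fintype.card Ω < 2 * (Fintype.card F ^ 2 - 1) := by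
      have : geo (Fintype.card F) (2 + 1) = 21 := by rw [h4]; rfl
      rw [h4]; omega
    haveI : Nonempty Ω := let ⟨_, x, _⟩ := hne; ⟨x⟩
    exact no_planes hm (hS.hyperplanes ψ hψ (Or.inr ⟨h4, hcase⟩)
      fun x => by obtain ⟨t, ht, ht0⟩ := hreg x; exact ⟨t, ht, ht0⟩)
  · obtain ⟨x, hx⟩ := hreg
    obtain ⟨h3, rfl⟩ := c3
    exact no_regular_three ψ hψ h3 hS hx
  · obtain ⟨h3, rfl⟩ := c3
    simp only [not_exists, not_forall] at hreg
    haveI : Nonempty Ω := let ⟨_, x, _⟩ := hne; ⟨x⟩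
    exact no_planes hm (hS.hyperplanes ψ hψ (Or.inl h3)
      fun x => by obtain ⟨t, ht, ht0⟩ := hreg x; exact ⟨t, ht, ht0⟩)

end CfsgLib.LinDeg
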