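import Cfsg.Agent.Lib.LinDeg.MinIndex

/-!
No regular orbit of the radical in a small set.
-/

set_option autoImplicit false
set_option linter.unusedSectionVars false

namespace CfsgLib.LinDeg

open Module Matrix

variable {F : Type*} [Field F] [Fintype F] {m : ℕ} {Ω : Type*} [Fintype Ω]
  [MulAction (Matrix.SpecialLinearGroup (Fin (m + 1)) F) Ω] (ψ : AddChar F ℂ) (hψ : ψ.IsPrimitive)

theorem full_levSL (M : GL (Fin m) F) {y : Ω} (hy : ∀ v, v ∈ uStab F m y) (v : Fin m → F) :
    v ∈ uStab F m (levSL M • y) := by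
  have hd : M.1.det ≠ 0 := ((Matrix.isUnit_iff_isUnit_det _).1 M.isUnit).ne_zero
  have h := levSL_mul_uSL M (M.1.det • (v ᵥ* M.1))
  rw [smul_vecMul, vecMul_vecMul, Units.mul_inv, vecMul_one, smul_smul, inv_mul_cancel₀ hd,
    one_smul] at h
  rw [mem_uStab, ← mul_smul, ← h, mul_smul, mem_uStab.1 (hy _)]

include hψ in
theorem Small.lev_trivial (hS : Small F m Ω) {g1 g2 : GL (Fin m) F}
    (hr : (geo (Fintype.card F) m).Prime) (h1 : g1 ^ geo (Fintype.card F) m = 1)
    (h2 : g2 ^ geo (Fintype.card F) m = 1) (hX : IsTransv (g1 * g2).1) :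
    ∀ y : Ω, (∀ v, v ∈ uStab F m y) →
      ∀ (u φ : Fin m → F) (h : φ ⬝ᵥ u = 0), levSL (tGL u φ h) • y = y := by
  classical
  intro y hy u φ h
  by_cases h0 : vecMulVec u φ = 0
  · have e : tGL u φ h = 1 := Units.ext (by show 1 + vecMulVec u φ = 1; rw [h0, add_zero])
    rw [e, map_one, one_smul]
  let Φ := {y : Ω // ∀ v, v ∈ uStab F m y}
  letI : MulAction (GL (Fin m) F) Φ :=
    { smul := fun M z => ⟨levSL M • z.1, full_levSL M z.2⟩
      one_smul := fun z => Subtype.ext (by show levSL 1 • z.1 = z.1; rw [map_one, one_smul])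
      mul_smul := fun a b z => Subtype.ext (by
        show levSL (a * b) • z.1 = levSL a • levSL b • z.1; rw [map_mul, mul_smul]) }
  obtain ⟨hqd, hfix⟩ := hS.fix_data ψ hψ
  have hm := hS.hm
  have hcard : Fintype.card Φ < geo (Fintype.card F) m := by
    have hv : (fun _ => 1 : Fin m → F) ≠ 0 := fun e => one_ne_zero (congrFun e ⟨0, by omega⟩)
    have h3 := hfix _ hv
    have h4 : Fintype.card Φ ≤ Nat.card {x : Ω // uSL (fun _ => 1 : Fin m → F) • x = x} := by
      rw [Nat.card_eq_fintype_card]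
      exact Fintype.card_subtype_mono _ _ fun x hx => mem_uStab.1 (hx _)
    have h5 := hS.small
    rw [geo_succ] at h5
    omega
  have hu : u ≠ 0 := fun e => h0 (by rw [e, zero_vecMulVec])
  have hφ : φ ≠ 0 := fun e => h0 (by rw [e, vecMulVec_zero])
  have hT : IsTransv (tGL u φ h).1 := ⟨u, φ, hu, hφ, h, rfl⟩
  obtain ⟨c, hc⟩ := hX.isConj_corner.trans hT.isConj_corner.symm
  have e : c * (g1 * g2) * c⁻¹ = tGL u φ h :=
    Units.ext (by rw [Units.val_mul, Units.val_mul, hc.eq, Units.mul_inv_cancel_right])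
  have h6 : tGL u φ h • (⟨y, hy⟩ : Φ) = ⟨y, hy⟩ := by
    rw [← e, mul_smul, mul_smul, smul_eq_of_large_prime hr hcard h1 h2, smul_inv_smul]
  exact congrArg Subtype.val h6

/-- `uSL a * levSL M` fixes the point `x`. -/
def Lift (x : Ω) (a : Fin m → F) (M : GL (Fin m) F) : Prop := (uSL a * levSL M) • x = x

theorem Lift.mul {x : Ω} {a b : Fin m → F} {M N : GL (Fin m) F} (hM : M.1.det = 1)
    (ha : Lift x a M) (hb : Lift x b N) : Lift x (a + b ᵥ* (M⁻¹).1) (M * N) := by
  have h := levSL_mul_uSL M b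
  rw [hM, inv_one, one_smul] at h
  show (uSL _ * levSL _) • x = x
  rw [uSL_add, map_mul, mul_assoc, ← mul_assoc (uSL (b ᵥ* _)), ← h, mul_assoc, ← mul_assoc,
    mul_smul, hb, ha]

theorem Lift.unique {x : Ω} (htriv : ∀ t ∈ uStab F m x, t = 0) {a b : Fin m → F} {M : GL (Fin m) F}
    (ha : Lift x a M) (hb : Lift x b M) : a = b := by
  rw [← sub_eq_zero]
  refine htriv _ ?_
  rw [mem_uStab]
  conv_lhs => rw [← (hb : (uSL b * levSL M) • x = x)]
  rw [← mul_smul, ← mul_assoc, ← uSL_add, sub_add_cancel]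
  exact ha

include hψ in
/-- With a regular orbit every transvection moves everything and each Levi element has a lift. -/
theorem Small.regular_data (hS : Small F m Ω) {x : Ω} (hx : ∀ t ∈ uStab F m x, t = 0)
    (hlev : ∀ y : Ω, (∀ v, v ∈ uStab F m y) →
      ∀ (u φ : Fin m → F) (h : φ ⬝ᵥ u = 0), levSL (tGL u φ h) • y = y) :
    (∀ M : GL (Fin m) F, ∃ a, Lift x a M) ∧
      ∀ (u φ : Fin m → F) (h : φ ⬝ᵥ u = 0) (c : F), u ≠ 0 → φ ≠ 0 →
        ¬ Lift x (c • φ) (tGL u φ h) := by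
  classical
  have hdi := hS.full_of_regular ψ hψ hx
  have hno := fun {y p φ} => no_fix (y := y) (p := p) (φ := φ) hS hdi hlev
  have hm := hS.hm
  refine ⟨?_, fun u φ h c hu hφ hl => ?_⟩
  · obtain ⟨hqd, hfix⟩ := hS.fix_data ψ hψ
    set v : Fin m → F := fun _ => 1
    have hv : v ≠ 0 := fun e => one_ne_zero (congrFun e ⟨0, by omega⟩)
    have h0 : Nat.card {z : Ω // uSL v • z = z} = 0 := by
      haveI : IsEmpty {z : Ω // uSL v • z = z} := ⟨fun z => by
        refine hno (y := z.1) (p := Pi.single 0 1) (φ := Fin.cons 0 v) (by simp)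
          (fun e => hv (funext fun i => congrFun e i.succ)) (fix_e0.2 ⟨rfl, ?_⟩)
        simpa [mem_uStab] using z.2⟩
      simp
    have hd := hfix v hv
    rw [h0, zero_add] at hd
    have horb : Finset.univ.image (fun w : Fin m → F => uSL w • x) = Finset.univ := by
      refine Finset.eq_univ_of_card _ ?_
      have h1 := orbit_mul_stab (F := F) (m := m) x
      have h2 : (Finset.univ.filter fun w => w ∈ uStab F m x) = {0} := by
        ext t
        simp only [Finset.mem_filter, Finset.mem_univ, true_and, Finset.mem_singleton]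
        exact ⟨hx t, fun e => e ▸ zero_mem _⟩
      rw [h2, Finset.card_singleton, mul_one] at h1
      rw [h1, hd]
    intro M
    obtain ⟨a, -, ha⟩ := Finset.mem_image.1 (horb.symm ▸ Finset.mem_univ (levSL M • x) :
      levSL M • x ∈ Finset.univ.image fun w : Fin m → F => uSL w • x)
    refine ⟨-a, ?_⟩
    show (uSL (-a) * levSL M) • x = x
    rw [mul_smul, ← ha, ← mul_smul, ← uSL_add, neg_add_cancel, uSL_zero, one_smul]
  · refine hno (y := x) (p := Fin.cons c u) (φ := Fin.cons 0 φ) (fun e => hu (funext fun i => congrFun e i.succ))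
      (fun e => hφ (funext fun i => congrFun e i.succ)) ⟨cons_dot_cons u φ h c, ?_⟩
    rw [← uSL_mul_levSL_eq_tv]
    exact hl

theorem vecMul_tGL_inv {n : ℕ} (a u φ : Fin n → F) (h : φ ⬝ᵥ u = 0) :
    a ᵥ* ((tGL u φ h)⁻¹).1 = a - (a ⬝ᵥ u) • φ := by
  show a ᵥ* (1 - vecMulVec u φ) = _
  rw [vecMul_sub, vecMul_one, vecMul_vecMulVec]

end CfsgLib.LinDeg

namespace CfsgLib.LinDeg

open Module Matrix

section cases

variable {F : Type*} [Field F] [Fintype F] {Ω : Type*} [Fintype Ω] (ψ : AddChar F ℂ) (hψ : ψ.IsPrimitive)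

theorem exists_factors_three : ∃ a b : GL (Fin 3) (ZMod 3), a ^ 13 = 1 ∧ b ^ 13 = 1 ∧
    (a * b).1 = 1 + vecMulVec (Pi.single 1 1) (Pi.single 0 1) :=
  ⟨⟨!![0, 0, 1; 1, 0, 0; 0, 1, 2], !![0, 1, 0; 1, 0, 1; 1, 0, 0], by decide +kernel, by decide +kernel⟩,
    ⟨!![1, 1, 0; 1, 0, 1; 1, 0, 0], !![0, 0, 1; 1, 0, 2; 0, 1, 2], by decide +kernel, by decide +kernel⟩,
    Units.ext (by rw [Units.val_pow_eq_pow_val, Units.val_one]; decide +kernel),
    Units.ext (by rw [Units.val_pow_eq_pow_val, Units.val_one]; decide +kernel),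
    by rw [Units.val_mul]; decide +kernel⟩

include hψ in
theorem no_regular_four [MulAction (Matrix.SpecialLinearGroup (Fin (2 + 1)) F) Ω]
    (h4 : Fintype.card F = 4) (hS : Small F 2 Ω) {x : Ω} (hx : ∀ t ∈ uStab F 2 x, t = 0) : False := by
  classical
  have hchar : (2 : F) = 0 := by
    have h := Nat.cast_card_eq_zero F
    rw [h4] at h
    push_cast at h
    have : (2 : F) * 2 = 0 := by linear_combination h
    rcases mul_eq_zero.1 this with h' | h' <;> exact h'
  obtain ⟨ω, hω⟩ : ∃ ω : F, ω ^ 2 + ω + 1 = 0 := by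
    obtain ⟨g, hg0, hg1⟩ : ∃ g : F, g ≠ 0 ∧ g ≠ 1 := by
      obtain ⟨g, hg⟩ : ∃ g : F, g ∉ ({0, 1} : Finset F) := by
        by_contra h
        simp only [not_exists, not_not] at h
        have := Finset.card_le_card (fun a _ => h a : (Finset.univ : Finset F) ⊆ {0, 1})
        rw [Finset.card_univ, h4] at this
        exact absurd (this.trans (Finset.card_insert_le _ _)) (by simp)
      exact ⟨g, by simpa using hg⟩
    refine ⟨g, ?_⟩
    have h3 : g ^ (3 : ℕ) = 1 := by
      have := FiniteField.pow_card_sub_one_eq_one g hg0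
      rwa [h4] at this
    refine (mul_eq_zero.1 (show (g - 1) * (g ^ 2 + g + 1) = 0 by linear_combination h3)).resolve_left
      (sub_ne_zero.2 hg1)
  let g1 : GL (Fin 2) F :=
    ⟨!![0, 1; 1, ω], !![ω, 1; 1, 0],
      by ext i j; fin_cases i <;> fin_cases j <;>
        simp [Matrix.mul_apply, Fin.sum_univ_two] <;> linear_combination ω * hchar,
      by ext i j; fin_cases i <;> fin_cases j <;>
        simp [Matrix.mul_apply, Fin.sum_univ_two] <;> linear_combination ω * hchar⟩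
  let g2 : GL (Fin 2) F :=
    ⟨!![ω + 1, 1; 1, 0], !![0, 1; 1, ω + 1],
      by ext i j; fin_cases i <;> fin_cases j <;>
        simp [Matrix.mul_apply, Fin.sum_univ_two] <;> linear_combination (ω + 1) * hchar,
      by ext i j; fin_cases i <;> fin_cases j <;>
        simp [Matrix.mul_apply, Fin.sum_univ_two] <;> linear_combination (ω + 1) * hchar⟩
  have hgeo : geo (Fintype.card F) 2 = 5 := by rw [h4]; rfl
  have hp1 : g1 ^ 5 = 1 := Units.ext (by
    show (!![0, 1; 1, ω] : Matrix (Fin 2) (Fin 2) F) ^ 5 = 1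
    ext i j
    fin_cases i <;> fin_cases j <;>
      simp [pow_succ, Matrix.mul_apply, Fin.sum_univ_two] <;> grind)
  have hp2 : g2 ^ 5 = 1 := Units.ext (by
    show (!![ω + 1, 1; 1, 0] : Matrix (Fin 2) (Fin 2) F) ^ 5 = 1
    ext i j
    fin_cases i <;> fin_cases j <;>
      simp [pow_succ, Matrix.mul_apply, Fin.sum_univ_two] <;> grind)
  have hu : ![(1 : F), 0] ⬝ᵥ ![0, 1] = 0 := by simp [dotProduct]
  have hX : IsTransv (g1 * g2).1 := by
    refine ⟨![0, 1], ![1, 0], fun e => one_ne_zero (α := F) (congrFun e 1),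
      fun e => one_ne_zero (α := F) (congrFun e 0), hu, ?_⟩
    show (!![0, 1; 1, ω] : Matrix (Fin 2) (Fin 2) F) * !![ω + 1, 1; 1, 0] = _
    ext i j
    fin_cases i <;> fin_cases j <;>
      simp [Matrix.mul_apply, Fin.sum_univ_two, vecMulVec_apply] <;> linear_combination ω * hchar
  have hlev := hS.lev_trivial ψ hψ (g1 := g1) (g2 := g2) (by rw [hgeo]; norm_num)
    (by rw [hgeo]; exact hp1) (by rw [hgeo]; exact hp2) hX
  obtain ⟨hlift, hno⟩ := hS.regular_data ψ hψ hx hlev
  set u : Fin 2 → F := ![0, 1] with hu'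
  set φ : Fin 2 → F := ![1, 0] with hφ'
  obtain ⟨a, ha⟩ := hlift (tGL u φ hu)
  have h2 := ha.mul (det_tGL _ _ _) ha
  have e : tGL u φ hu * tGL u φ hu = 1 := Units.ext (by
    show (1 + vecMulVec u φ) * (1 + vecMulVec u φ) = 1
    ext i j
    fin_cases i <;> fin_cases j <;>
      simp [u, φ, Matrix.mul_apply, Fin.sum_univ_two, vecMulVec_apply] <;> linear_combination hchar)
  rw [e, vecMul_tGL_inv] at h2
  have h3 := congrFun (hx _ (show _ ∈ uStab F 2 x from by
    rw [mem_uStab]; simpa [Lift] using h2)) 0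
  have ha1 : a 1 = 0 := by
    simp only [Pi.add_apply, Pi.sub_apply, Pi.smul_apply, smul_eq_mul, Pi.zero_apply] at h3
    rw [show φ 0 = 1 from rfl, show u 0 = 0 from rfl, show u 1 = 1 from rfl] at h3
    linear_combination -h3 + a 0 * hchar
  refine hno u φ hu (a 0) (fun e => one_ne_zero (α := F) (congrFun e 1))
    (fun e => one_ne_zero (α := F) (congrFun e 0)) ?_
  convert ha
  funext i
  fin_cases i <;> simp [φ, ha1]

include hψ in
theorem no_regular_three [MulAction (Matrix.SpecialLinearGroup (Fin (3 + 1)) F) Ω]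
    (h3 : Fintype.card F = 3) (hS : Small F 3 Ω) {x : Ω} (hx : ∀ t ∈ uStab F 3 x, t = 0) : False := by
  classical
  haveI : Fact (Nat.Prime 3) := ⟨Nat.prime_three⟩
  let e : ZMod 3 ≃+* F := ZMod.ringEquivOfPrime F Nat.prime_three h3
  let f : GL (Fin 3) (ZMod 3) →* GL (Fin 3) F := Matrix.GeneralLinearGroup.map e.toRingHom
  obtain ⟨a1, a2, hp1, hp2, hprod⟩ := exists_factors_three
  have hgeo : geo (Fintype.card F) 3 = 13 := by rw [h3]; rfl
  have hu10 : (Pi.single 0 (1 : F) : Fin 3 → F) ⬝ᵥ Pi.single 1 1 = 0 := by simp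
  have hX : IsTransv (f a1 * f a2).1 := by
    refine ⟨Pi.single 1 1, Pi.single 0 1, by simp, by simp, hu10, ?_⟩
    rw [← map_mul]
    ext i j
    show e ((a1 * a2).1 i j) = _
    rw [hprod]
    fin_cases i <;> fin_cases j <;> simp [vecMulVec_apply]
  have hlev := hS.lev_trivial ψ hψ (g1 := f a1) (g2 := f a2) (by rw [hgeo]; norm_num)
    (by rw [hgeo, ← map_pow, hp1, map_one]) (by rw [hgeo, ← map_pow, hp2, map_one]) hX
  obtain ⟨hlift, hno⟩ := hS.regular_data ψ hψ hx hlev
  set s : Fin 3 → Fin 3 → F := fun i => Pi.single i 1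
  have hA0 : s 2 ⬝ᵥ s 0 = 0 := by simp [s]
  have hB0 : s 1 ⬝ᵥ s 2 = 0 := by simp [s]
  have hC0 : s 1 ⬝ᵥ s 0 = 0 := by simp [s]
  set A := tGL (s 0) (s 2) hA0
  set B := tGL (s 2) (s 1) hB0
  set C := tGL (s 0) (s 1) hC0
  have hAB : A * B = C * (B * A) := Units.ext (by
    show (1 + vecMulVec (s 0) (s 2)) * (1 + vecMulVec (s 2) (s 1)) =
      (1 + vecMulVec (s 0) (s 1)) * ((1 + vecMulVec (s 2) (s 1)) * (1 + vecMulVec (s 0) (s 2)))
    simp only [add_mul, mul_add, one_mul, mul_one, vecMulVec_mul_vecMulVec]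
    simp [s]
    abel)
  have hCB : C * B = B * C := Units.ext (by
    show (1 + vecMulVec (s 0) (s 1)) * (1 + vecMulVec (s 2) (s 1)) =
      (1 + vecMulVec (s 2) (s 1)) * (1 + vecMulVec (s 0) (s 1))
    simp only [add_mul, mul_add, one_mul, mul_one, vecMulVec_mul_vecMulVec]
    simp [s]
    abel)
  obtain ⟨a, ha⟩ := hlift A
  obtain ⟨b, hb⟩ := hlift B
  obtain ⟨c, hc⟩ := hlift C
  have l1 := ha.mul (det_tGL _ _ _) hb
  have l2 := hc.mul (det_tGL _ _ _) (hb.mul (det_tGL _ _ _) ha)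
  rw [← hAB] at l2
  have r1 := Lift.unique hx l1 l2
  have l3 := hc.mul (det_tGL _ _ _) hb
  have l4 := hb.mul (det_tGL _ _ _) hc
  rw [hCB] at l3
  have r2 := Lift.unique hx l3 l4
  simp only [A, B, C, vecMul_tGL_inv] at r1 r2
  have e20 := congrFun r2 1
  have e10 := congrFun r1 0
  have e12 := congrFun r1 2
  simp [s] at e20 e10 e12
  have hc0 : c 0 = 0 := by linear_combination -e10
  have h2 : (2 : F) ≠ 0 := by
    have h := Nat.cast_card_eq_zero F
    rw [h3] at h
    push_cast at h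
    intro h'
    exact one_ne_zero (α := F) (by linear_combination h - h')
  have hc2 : c 2 = 0 := by
    have : (2 : F) * c 2 = 0 := by linear_combination -e12 + e20
    exact (mul_eq_zero.1 this).resolve_left h2
  refine hno (s 0) (s 1) hC0 (c 1) (by simp [s]) (by simp [s]) ?_
  convert hc
  funext i
  fin_cases i <;> simp [s, hc0, hc2]

end cases

end CfsgLib.LinDeg
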