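import Cfsg.Agent.Lib.LinDeg.PermRep

/-!
Orbits of the radical on a small set acted on by `SL_{m+1}`.
-/

set_option autoImplicit false

namespace CfsgLib.LinDeg

open Module Matrix

variable {F : Type*} [Field F] [Fintype F] {m : ℕ} {Ω : Type*} [Fintype Ω]
  [MulAction (Matrix.SpecialLinearGroup (Fin (m + 1)) F) Ω]

/-- The stabiliser in the radical. -/
def uStab (F : Type*) [Field F] (m : ℕ) {Ω : Type*}
    [MulAction (Matrix.SpecialLinearGroup (Fin (m + 1)) F) Ω] (x : Ω) : AddSubgroup (Fin m → F) where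
  carrier := {v | uSL v • x = x}
  add_mem' {a b} ha hb := by
    simp only [Set.mem_setOf_eq] at *
    rw [uSL_add, mul_smul, hb, ha]
  zero_mem' := by simp [uSL_zero]
  neg_mem' {a} ha := by
    simp only [Set.mem_setOf_eq] at *
    conv_lhs => rw [← ha]
    rw [← mul_smul, ← uSL_add, neg_add_cancel, uSL_zero, one_smul]

theorem mem_uStab {x : Ω} {v : Fin m → F} : v ∈ uStab F m x ↔ uSL v • x = x := Iff.rfl

theorem uStab_smul (a : Fin m → F) (x : Ω) : uStab F m (uSL a • x) = uStab F m x := by
  ext v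
  rw [mem_uStab, mem_uStab, ← mul_smul, ← uSL_add, add_comm v a, uSL_add, mul_smul]
  exact (MulAction.injective (uSL a)).eq_iff

/-- The character `v ↦ ψ (v ⬝ᵥ w)` is trivial on the stabiliser of `x`. -/
def Perp (ψ : AddChar F ℂ) (x : Ω) (w : Fin m → F) : Prop :=
  ∀ v ∈ uStab F m x, ψ (v ⬝ᵥ w) = 1

theorem Perp.add {ψ : AddChar F ℂ} {x : Ω} {w w' : Fin m → F} (h : Perp ψ x w) (h' : Perp ψ x w') :
    Perp ψ x (w + w') := fun v hv => by
  rw [dotProduct_add, AddChar.map_add_eq_mul, h v hv, h' v hv, one_mul]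

theorem Perp.sub {ψ : AddChar F ℂ} {x : Ω} {w w' : Fin m → F} (h : Perp ψ x w) (h' : Perp ψ x w') :
    Perp ψ x (w - w') := fun v hv => by
  rw [dotProduct_sub, sub_eq_add_neg, AddChar.map_add_eq_mul, h v hv, one_mul, ← neg_dotProduct,
    h' (-v) (neg_mem hv)]

theorem perp_smul_orbit {ψ : AddChar F ℂ} {a : Fin m → F} {x : Ω} {w : Fin m → F} :
    Perp ψ (uSL a • x) w ↔ Perp ψ x w := by
  unfold Perp
  rw [uStab_smul]

theorem uStab_levSL {M : GL (Fin m) F} (hd : M.1.det = 1) (x : Ω) (v : Fin m → F) :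
    v ᵥ* (M⁻¹).1 ∈ uStab F m (levSL M • x) ↔ v ∈ uStab F m x := by
  have h := levSL_mul_uSL M v
  rw [hd, inv_one, one_smul] at h
  rw [mem_uStab, mem_uStab, ← mul_smul, ← h, mul_smul]
  exact (MulAction.injective (levSL M)).eq_iff

theorem perp_levSL {ψ : AddChar F ℂ} {M : GL (Fin m) F} (hd : M.1.det = 1) {x : Ω} {w : Fin m → F}
    (h : Perp ψ x w) : Perp ψ (levSL M • x) (M.1 *ᵥ w) := by
  intro v hv
  have hv' : v ᵥ* M.1 ∈ uStab F m x := by
    rw [← uStab_levSL hd x]
    simpa using hv
  rw [dotProduct_mulVec]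
  exact h _ hv'

variable (ψ : AddChar F ℂ) (hψ : ψ.IsPrimitive)

include hψ in
open Classical in
theorem sum_stab_char (x : Ω) (w : Fin m → F) :
    ∑ v ∈ Finset.univ.filter (fun v => v ∈ uStab F m x), ψ (-(v ⬝ᵥ w)) =
      if Perp ψ x w then ((Finset.univ.filter (fun v => v ∈ uStab F m x)).card : ℂ) else 0 := by
  split_ifs with h
  · rw [Finset.card_eq_sum_ones, Nat.cast_sum]
    refine Finset.sum_congr rfl fun v hv => ?_
    rw [← neg_dotProduct, h (-v) (neg_mem (Finset.mem_filter.1 hv).2), Nat.cast_one]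
  · simp only [Perp, not_forall] at h
    obtain ⟨t, ht, ht1⟩ := h
    set S := ∑ v ∈ Finset.univ.filter (fun v => v ∈ uStab F m x), ψ (-(v ⬝ᵥ w)) with hS
    have h1 : ψ (t ⬝ᵥ w) * S = S := by
      rw [hS, Finset.mul_sum]
      refine Finset.sum_equiv (Equiv.subRight t) (fun v => ?_) fun v _ => ?_
      · simp only [Finset.mem_filter, Finset.mem_univ, true_and, Equiv.subRight_apply]
        exact ⟨fun h => sub_mem h ht, fun h => by simpa using add_mem h ht⟩
      · simp only [Equiv.subRight_apply]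
        rw [← AddChar.map_add_eq_mul]
        congr 1
        rw [sub_dotProduct]; ring
    have h2 : (ψ (t ⬝ᵥ w) - 1) * S = 0 := by rw [sub_mul, one_mul, h1, sub_self]
    exact (mul_eq_zero.1 h2).resolve_left (sub_ne_zero.2 ht1)

theorem card_filter_stab_pos (x : Ω) [DecidablePred fun v => v ∈ uStab F m x] :
    0 < (Finset.univ.filter (fun v : Fin m → F => v ∈ uStab F m x)).card :=
  Finset.card_pos.2 ⟨0, by simp [zero_mem]⟩

open Classical in
theorem orbit_mul_stab (x : Ω) :
    (Finset.univ.image fun v : Fin m → F => uSL v • x).card *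
      (Finset.univ.filter (fun v : Fin m → F => v ∈ uStab F m x)).card = Fintype.card F ^ m := by
  have h := Finset.card_eq_sum_card_image (fun v : Fin m → F => uSL v • x) Finset.univ
  have hfib : ∀ y ∈ Finset.univ.image (fun v : Fin m → F => uSL v • x),
      (Finset.univ.filter fun v : Fin m → F => uSL v • x = y).card =
        (Finset.univ.filter (fun v : Fin m → F => v ∈ uStab F m x)).card := by
    intro y hy
    obtain ⟨a, -, rfl⟩ := Finset.mem_image.1 hy
    refine Finset.card_equiv (Equiv.subRight a) fun v => ?_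
    simp only [Finset.mem_filter, Finset.mem_univ, true_and, Equiv.subRight_apply, mem_uStab]
    conv_rhs => rw [← (MulAction.injective (uSL a)).eq_iff, ← mul_smul, ← uSL_add, add_sub_cancel]
  rw [Finset.sum_congr rfl hfib, Finset.sum_const, smul_eq_mul, Finset.card_univ, Fintype.card_fun,
    Fintype.card_fin] at h
  exact h.symm

/-- The standing assumptions: a transitive non-trivial action on fewer points than the projective space. -/
structure Small (F : Type*) [Field F] [Fintype F] (m : ℕ) (Ω : Type*) [Fintype Ω]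
    [MulAction (Matrix.SpecialLinearGroup (Fin (m + 1)) F) Ω] : Prop where
  hm : 2 ≤ m
  trans : MulAction.IsPretransitive (Matrix.SpecialLinearGroup (Fin (m + 1)) F) Ω
  moved : ∀ a : Matrix.SpecialLinearGroup (Fin (m + 1)) F, IsTransv a.1 → ∃ x : Ω, a • x ≠ x
  small : Fintype.card Ω < geo (Fintype.card F) (m + 1)

include hψ in
theorem Small.fix_data (hS : Small F m Ω) :
    Fintype.card F ^ m ≤ Fintype.card Ω ∧ ∀ v : Fin m → F, v ≠ 0 →
      Nat.card {x : Ω // uSL v • x = x} + Fintype.card F ^ m = Fintype.card Ω := by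
  classical
  have hm := hS.hm
  have hK := card_cast_ne_zero (F := F)
  set D := slMirab F m
  set π := permRep (Matrix.SpecialLinearGroup (Fin (m + 1)) F) Ω
  set v1 : Fin m → F := fun _ => 1
  have hv1 : v1 ≠ 0 := fun h => one_ne_zero (congrFun h ⟨0, by omega⟩)
  have hne : ∃ v, π (D.u v) ≠ 1 := ⟨v1, permRep_ne_one (hS.moved _ (uSL_isTransv hv1))⟩
  have hpos := D.mult_pos π ψ hψ hK hm hne
  have hdim := D.finrank_eq π ψ hψ hK hm
  rw [Module.finrank_fintype_fun_eq_card] at hdim
  have hW : 1 ≤ finrank ℂ (D.W π ψ) := by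
    rw [Nat.one_le_iff_ne_zero]
    intro h
    rw [Submodule.finrank_eq_zero, LinearMap.range_eq_bot] at h
    obtain ⟨x, _⟩ := hS.moved _ (uSL_isTransv hv1)
    have h1 := congrArg (fun T => T (fun _ : Ω => (1 : ℂ)) x) h
    simp [Mirab.E, eigProj, π, permRep_apply, LinearMap.sum_apply, Finset.sum_apply,
      Fintype.card_fun] at h1
  have hgeo := geo_le_two_mul (Fintype.card F) m Fintype.one_lt_card
  have hsmall := hS.small
  have ha : D.mult π ψ = 1 := by
    by_contra h
    have : 2 * (Fintype.card F ^ m - 1) ≤ D.mult π ψ * (Fintype.card F ^ m - 1) :=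
      Nat.mul_le_mul_right _ (by omega)
    omega
  have h1q : 1 ≤ Fintype.card F ^ m := Nat.one_le_pow _ _ Fintype.card_pos
  rw [ha, one_mul] at hdim
  refine ⟨by omega, fun v hv => ?_⟩
  have ht := D.trace_u π ψ hψ hK hm ha hv
  rw [show π (D.u v) = permRep _ Ω (uSL v) from rfl, trace_permRep] at ht
  have h2 : ((Nat.card {x : Ω // uSL v • x = x} + 1 : ℕ) : ℂ) = (finrank ℂ (D.W π ψ) : ℂ) := by
    push_cast; linear_combination ht
  have h3 := Nat.cast_injective (R := ℂ) h2
  omega

include hψ in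
open Classical in
theorem Small.sum_perp (hS : Small F m Ω) {w : Fin m → F} (hw : w ≠ 0) :
    ∑ x : Ω, (if Perp ψ x w then (Finset.univ.filter (fun v => v ∈ uStab F m x)).card else 0) =
      Fintype.card F ^ m := by
  apply Nat.cast_injective (R := ℂ)
  push_cast
  calc ∑ x : Ω, (if Perp ψ x w then
        ((Finset.univ.filter (fun v => v ∈ uStab F m x)).card : ℂ) else 0)
      = ∑ x : Ω, ∑ v ∈ Finset.univ.filter (fun v => v ∈ uStab F m x), ψ (-(v ⬝ᵥ w)) :=
        Finset.sum_congr rfl fun x _ => (sum_stab_char ψ hψ x w).symm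
    _ = ∑ v : Fin m → F, ψ (-(v ⬝ᵥ w)) * (Nat.card {x : Ω // uSL v • x = x} : ℂ) := by
        simp only [Finset.sum_filter]
        rw [Finset.sum_comm]
        refine Finset.sum_congr rfl fun v _ => ?_
        simp only [mem_uStab]
        rw [← Finset.sum_filter, Finset.sum_const, nsmul_eq_mul, Nat.card_eq_fintype_card,
          Fintype.card_subtype, mul_comm]
    _ = _ := by
        obtain ⟨-, hfix⟩ := hS.fix_data ψ hψ
        have h0 : (Nat.card {x : Ω // uSL (0 : Fin m → F) • x = x} : ℂ) = Fintype.card Ω := by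
          simp [uSL_zero]
        have hsum := sum_char_dot ψ hψ (neg_ne_zero.2 hw)
        simp only [dotProduct_neg] at hsum
        rw [← Finset.add_sum_erase _ _ (Finset.mem_univ (0 : Fin m → F))] at hsum ⊢
        rw [zero_dotProduct, neg_zero, AddChar.map_zero_eq_one] at hsum ⊢
        rw [one_mul, h0, Finset.sum_congr rfl fun v hv => by
          rw [show (Nat.card {x : Ω // uSL v • x = x} : ℂ) =
              (Fintype.card Ω : ℂ) - (Fintype.card F : ℂ) ^ m from by
            rw [← hfix v (Finset.ne_of_mem_erase hv)]; push_cast; ring], ← Finset.sum_mul]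
        linear_combination ((Fintype.card Ω : ℂ) - (Fintype.card F : ℂ) ^ m) * hsum

include hψ in
theorem Small.exists_perp (hS : Small F m Ω) {w : Fin m → F} (hw : w ≠ 0) : ∃ x : Ω, Perp ψ x w := by
  classical
  by_contra h
  simp only [not_exists] at h
  have := hS.sum_perp ψ hψ hw
  simp [h] at this
  exact absurd this.symm (pow_ne_zero _ Fintype.card_ne_zero)

include hψ in
theorem Small.perp_unique (hS : Small F m Ω) {w : Fin m → F} (hw : w ≠ 0) {x y : Ω}
    (hx : Perp ψ x w) (hy : Perp ψ y w) : ∃ a : Fin m → F, y = uSL a • x := by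
  classical
  by_contra hne
  simp only [not_exists] at hne
  have hsum := hS.sum_perp ψ hψ hw
  set O : Finset Ω := Finset.univ.image fun v : Fin m → F => uSL (F := F) v • x with hO
  have h1 : ∑ z ∈ O, (if Perp ψ z w then (Finset.univ.filter (fun v => v ∈ uStab F m z)).card else 0) =
      Fintype.card F ^ m := by
    rw [← orbit_mul_stab (F := F) (m := m) x, ← smul_eq_mul, ← Finset.sum_const]
    refine Finset.sum_congr rfl fun z hz => ?_
    obtain ⟨a, -, rfl⟩ := Finset.mem_image.1 hz
    rw [if_pos (perp_smul_orbit.2 hx)]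
    simp only [uStab_smul]
  have hy' : y ∉ O := fun h => by
    obtain ⟨a, -, ha⟩ := Finset.mem_image.1 h
    exact hne a ha.symm
  have h2 := Finset.sum_le_univ_sum_of_nonneg
    (f := fun z : Ω => if Perp ψ z w then (Finset.univ.filter (fun v => v ∈ uStab F m z)).card else 0)
    (fun _ => Nat.zero_le _) (s := insert y O)
  rw [Finset.sum_insert hy', h1, hsum, if_pos hy] at h2
  have := card_filter_stab_pos (F := F) (m := m) y
  omega

end CfsgLib.LinDeg
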