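import Cfsg.Agent.Lib.LinDeg.Bound

/-!
Permutation representations: small sets with an action of the special linear group.
-/

set_option autoImplicit false

namespace CfsgLib.LinDeg

open Module Matrix

universe u v

section perm

variable (G : Type u) [Group G] (Ω : Type v) [MulAction G Ω]

/-- The permutation representation on functions. -/
noncomputable def permRep : G →* Module.End ℂ (Ω → ℂ) where
  toFun g := LinearMap.funLeft ℂ ℂ fun x => g⁻¹ • x
  map_one' := by ext f x; simp [LinearMap.funLeft_apply]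
  map_mul' a b := by ext f x; simp [LinearMap.funLeft_apply, mul_smul]

variable {G Ω}

theorem permRep_apply (g : G) (f : Ω → ℂ) (x : Ω) : permRep G Ω g f x = f (g⁻¹ • x) := rfl

variable [Fintype Ω]

theorem trace_permRep (g : G) :
    LinearMap.trace ℂ (Ω → ℂ) (permRep G Ω g) = (Nat.card {x : Ω // g • x = x} : ℂ) := by
  classical
  rw [LinearMap.trace_eq_matrix_trace ℂ (Pi.basisFun ℂ Ω)]
  have e : ∀ x : Ω, LinearMap.toMatrix (Pi.basisFun ℂ Ω) (Pi.basisFun ℂ Ω) (permRep G Ω g) x x =
      if g • x = x then 1 else 0 := by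
    intro x
    simp only [LinearMap.toMatrix_apply, Pi.basisFun_apply, Pi.basisFun_repr, permRep_apply,
      Pi.single_apply, inv_smul_eq_iff]
    exact if_congr ⟨Eq.symm, Eq.symm⟩ rfl rfl
  rw [Matrix.trace]
  simp only [Matrix.diag, e]
  rw [Finset.sum_boole, Nat.card_eq_fintype_card, Fintype.card_subtype]

theorem permRep_ne_one {g : G} (hg : ∃ x : Ω, g • x ≠ x) : permRep G Ω g ≠ 1 := by
  classical
  obtain ⟨x, hx⟩ := hg
  intro h
  have := congrArg (fun T => T (Pi.single x (1 : ℂ)) x) h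
  simp only [permRep_apply, Module.End.one_apply, Pi.single_apply, if_pos rfl] at this
  rw [if_neg (fun h => hx (by rw [eq_inv_smul_iff.1 h.symm]))] at this
  exact zero_ne_one this

/-- The functions with zero sum. -/
def sumZero (Ω : Type v) [Fintype Ω] : Submodule ℂ (Ω → ℂ) where
  carrier := {f | ∑ x, f x = 0}
  add_mem' {a b} ha hb := by simp only [Set.mem_setOf_eq] at *; simp [Finset.sum_add_distrib, ha, hb]
  zero_mem' := by simp
  smul_mem' c f hf := by simp only [Set.mem_setOf_eq] at *; simp [← Finset.mul_sum, hf]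

theorem mapsTo_sumZero (g : G) : ∀ f ∈ sumZero Ω, permRep G Ω g f ∈ sumZero Ω := by
  intro f (hf : ∑ x, f x = 0)
  show ∑ x, f (g⁻¹ • x) = 0
  rw [← hf]
  exact Fintype.sum_equiv (MulAction.toPerm g⁻¹) _ _ fun x => rfl

/-- The permutation representation on functions with zero sum. -/
noncomputable def redRep (G : Type u) [Group G] (Ω : Type v) [MulAction G Ω] [Fintype Ω] :
    G →* Module.End ℂ (sumZero Ω) where
  toFun g := (permRep G Ω g).restrict (mapsTo_sumZero g)
  map_one' := by ext f x; simp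
  map_mul' a b := by ext f x; simp

theorem finrank_sumZero_lt [Nonempty Ω] : finrank ℂ (sumZero Ω) < Fintype.card Ω := by
  have h : sumZero Ω ≠ ⊤ := by
    intro h
    have h1 : (fun _ : Ω => (1 : ℂ)) ∈ sumZero Ω := h ▸ Submodule.mem_top
    have h2 : ∑ _x : Ω, (1 : ℂ) = 0 := h1
    simp at h2
  have := Submodule.finrank_lt h
  simpa using this

theorem redRep_ne_one {g : G} (hg : ∃ x : Ω, g • x ≠ x) : redRep G Ω g ≠ 1 := by
  classical
  obtain ⟨x, hx⟩ := hg
  intro h
  have hmem : Pi.single x (1 : ℂ) - Pi.single (g • x) (1 : ℂ) ∈ sumZero Ω := by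
    show ∑ y, (Pi.single x (1 : ℂ) - Pi.single (g • x) (1 : ℂ) : Ω → ℂ) y = 0
    simp [Finset.sum_sub_distrib]
  have h1 : (Pi.single x (1 : ℂ) - Pi.single (g • x) (1 : ℂ) : Ω → ℂ) (g⁻¹ • (g • x)) =
      (Pi.single x (1 : ℂ) - Pi.single (g • x) (1 : ℂ) : Ω → ℂ) (g • x) :=
    congrFun (congrArg Subtype.val (congrArg (fun T => T ⟨_, hmem⟩) h)) (g • x)
  simp [Pi.single_apply, hx, Ne.symm hx] at h1
  norm_num at h1

end perm

/-- An element that is a product of two elements of prime order larger than the set acts trivially. -/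
theorem smul_eq_of_large_prime {G : Type u} [Group G] {Ω : Type v} [MulAction G Ω] [Fintype Ω]
    {r : ℕ} (hr : r.Prime) (hd : Fintype.card Ω < r) {a b : G} (ha : a ^ r = 1) (hb : b ^ r = 1)
    (x : Ω) : (a * b) • x = x := by
  classical
  have key : ∀ c : G, c ^ r = 1 → MulAction.toPermHom G Ω c = 1 := by
    intro c hc
    have h1 : orderOf (MulAction.toPermHom G Ω c) ∣ r :=
      orderOf_dvd_of_pow_eq_one (by rw [← map_pow, hc, map_one])
    rcases (Nat.dvd_prime hr).1 h1 with h2 | h2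
    · exact orderOf_eq_one_iff.1 h2
    · have h3 : r ∣ (Fintype.card Ω).factorial := by
        rw [← h2, ← Fintype.card_perm]
        exact orderOf_dvd_card
      exact absurd ((Nat.Prime.dvd_factorial hr).1 h3) (by omega)
  have : MulAction.toPermHom G Ω (a * b) = 1 := by rw [map_mul, key a ha, key b hb, one_mul]
  exact congrFun (congrArg (fun e : Equiv.Perm Ω => (e : Ω → Ω)) this) x

variable {F : Type*} [Field F] [Fintype F] {m : ℕ}

/-- In a non-trivial action every transvection moves a point. -/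
theorem exists_moved {Ω : Type v} [MulAction (Matrix.SpecialLinearGroup (Fin (m + 1)) F) Ω]
    (hm : 2 ≤ m) (hne : ∃ (g : Matrix.SpecialLinearGroup (Fin (m + 1)) F) (x : Ω), g • x ≠ x)
    {a : Matrix.SpecialLinearGroup (Fin (m + 1)) F} (ha : IsTransv a.1) : ∃ x : Ω, a • x ≠ x := by
  by_contra h
  simp only [not_exists, not_not, ne_eq] at h
  obtain ⟨g, x, hgx⟩ := hne
  have := eq_top_of_transv (by omega) (MulAction.toPermHom (Matrix.SpecialLinearGroup (Fin (m + 1)) F) Ω).ker
    ha (MonoidHom.mem_ker.2 (Equiv.ext h))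
  have hg : MulAction.toPermHom (Matrix.SpecialLinearGroup (Fin (m + 1)) F) Ω g = 1 :=
    MonoidHom.mem_ker.1 (this ▸ Subgroup.mem_top g)
  exact hgx (congrFun (congrArg (fun e : Equiv.Perm Ω => (e : Ω → Ω)) hg) x)

theorem card_le_action_generic {Ω : Type v} [Fintype Ω]
    [MulAction (Matrix.SpecialLinearGroup (Fin (m + 1)) F) Ω] (hm : 2 ≤ m)
    (hne : ∃ (g : Matrix.SpecialLinearGroup (Fin (m + 1)) F) (x : Ω), g • x ≠ x)
    (h1 : ¬ (Fintype.card F = 2 ∧ m ≤ 3)) (h2 : ¬ (Fintype.card F = 3 ∧ m = 3))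
    (h3 : ¬ (Fintype.card F = 4 ∧ m = 2)) : geo (Fintype.card F) (m + 1) ≤ Fintype.card Ω := by
  classical
  set v : Fin m → F := fun _ => 1
  have hv : v ≠ 0 := fun h => one_ne_zero (congrFun h ⟨0, by omega⟩)
  have hmv := exists_moved hm hne (uSL_isTransv hv)
  haveI : Nonempty Ω := let ⟨x, _⟩ := hmv; ⟨x⟩
  obtain ⟨k, σ, hσ, hσ1, hk⟩ := exists_irr_ne_one (redRep _ Ω) (redRep_ne_one hmv)
  haveI := hσ
  have h := sl_bound hm h1 h2 h3 σ ⟨v, hσ1⟩
  have := finrank_sumZero_lt (Ω := Ω)
  omega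

end CfsgLib.LinDeg
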