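import Cfsg.Agent.Lib.LinDeg.Step

/-!
Transvections of the Levi complement act trivially on eigenlines of the radical.
-/

set_option autoImplicit false

namespace CfsgLib.LinDeg

open Module Matrix

variable {F : Type*} [Field F] [Fintype F] {G : Type*} [Group G] {m : ℕ}
  (D : Mirab F m G) {K : Type*} [Field K] {V : Type*} [AddCommGroup V] [Module K V]
  [FiniteDimensional K V] (π : G →* Module.End K V) (ψ : AddChar F K) (hψ : ψ.IsPrimitive)
  (hK : (Fintype.card F : K) ≠ 0)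

theorem apply_eq_zero_of_fix {i j : Fin m} (h : i ≠ j) {c : F} (hc : c ≠ 0) {w : Fin m → F}
    (hw : (tGL (c • Pi.single i 1) (Pi.single j 1) (dot_eq_zero h c)).1 *ᵥ w = w) : w j = 0 := by
  rw [tGL_mulVec, single_dotProduct, one_mul, add_eq_left] at hw
  have := congrFun hw i
  simpa [hc] using this

theorem xTV_add (hm : 2 ≤ m) (a b : F) : xTV hm (a + b) = xTV hm a * xTV hm b := by
  apply Units.ext
  show (1 : Matrix (Fin m) (Fin m) F) + _ = (1 + _) * (1 + _)
  rw [add_smul, add_vecMulVec, mul_add, mul_one, add_mul, one_mul, vecMulVec_mul_vecMulVec,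
    dot_eq_zero (i0_ne_i1 hm).symm b]
  simp [add_assoc]

theorem det_xTV (hm : 2 ≤ m) (c : F) : (xTV hm c).1.det = 1 := det_tGL _ _ _

theorem xTV_fix (hm : 2 ≤ m) {w : Fin m → F} (hw : w (i0 hm) = 0) (c : F) :
    (xTV hm c).1 *ᵥ w = w := by
  rw [xTV, tGL_mulVec, single_dotProduct, hw, mul_zero, zero_smul, add_zero]

include hψ hK in
/-- Commutator route. -/
theorem Mirab.scal_comm (hm : 2 ≤ m) (ha : D.mult π ψ = 1) {w : Fin m → F} (hw : w ≠ 0) {i j : Fin m}
    (hij : i ≠ j) (hwj : w j = 0) (c : F) (t ξ : Fin m → F) (h1 : ξ ⬝ᵥ t = 1) (h2 : ξ ⬝ᵥ w = 0)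
    (h3 : ξ i = 0) (h4 : t j = 0) :
    D.scal π ψ w (D.L (tGL (c • Pi.single i 1) (Pi.single j 1) (dot_eq_zero hij c))) = 1 := by
  have ha' : ξ ⬝ᵥ (c • (Pi.single i 1 : Fin m → F)) = 0 := by simp [h3]
  have hb' : (Pi.single j 1 : Fin m → F) ⬝ᵥ t = 0 := by simp [h4]
  set A := tGL (c • Pi.single i 1) ξ ha' with hA
  set B := tGL t (Pi.single j 1) hb' with hB
  set X := tGL (c • Pi.single i 1) (Pi.single j 1) (dot_eq_zero hij c) with hX
  have e : A * B = X * B * A := by
    apply Units.ext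
    show ((1 : Matrix (Fin m) (Fin m) F) + _) * (1 + _) = (1 + _) * (1 + _) * (1 + _)
    simp only [mul_add, mul_one, add_mul, one_mul, vecMulVec_mul_vecMulVec, h1, ha', hb',
      dot_eq_zero hij c, one_smul, zero_smul, vecMulVec_zero, add_zero, zero_mul]
    abel
  have e' : X = A * B * A⁻¹ * B⁻¹ := by rw [e]; group
  rw [e', map_mul, map_mul, map_mul, map_inv, map_inv]
  refine D.scal_commutator π ψ hψ hK hm ha hw (D.L_mem_stab π ψ (det_tGL _ _ _) ?_)
    (D.L_mem_stab π ψ (det_tGL _ _ _) ?_)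
  · rw [hA, tGL_mulVec, h2, zero_smul, add_zero]
  · rw [hB, tGL_mulVec, single_dotProduct, hwj, mul_zero, zero_smul, add_zero]

include hψ hK in
/-- With at least four coordinates, commutators suffice. -/
theorem Mirab.scal_four (hm : 4 ≤ m) (ha : D.mult π ψ = 1) {w : Fin m → F} (hw : w ≠ 0) {i j : Fin m}
    (hij : i ≠ j) (hwj : w j = 0) (c : F) :
    D.scal π ψ w (D.L (tGL (c • Pi.single i 1) (Pi.single j 1) (dot_eq_zero hij c))) = 1 := by
  classical
  have hcard : 1 < (((Finset.univ : Finset (Fin m)).erase i).erase j).card := by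
    have h1 := Finset.card_erase_of_mem (Finset.mem_univ i)
    have h2 := Finset.pred_card_le_card_erase (s := (Finset.univ : Finset (Fin m)).erase i) (a := j)
    rw [Finset.card_univ, Fintype.card_fin] at h1
    omega
  obtain ⟨k, hk, l, hl, hkl⟩ := Finset.one_lt_card.1 hcard
  simp only [Finset.mem_erase, Finset.mem_univ, and_true] at hk hl
  by_cases hwk : w k = 0
  · exact D.scal_comm π ψ hψ hK (by omega) ha hw hij hwj c (Pi.single k 1) (Pi.single k 1) (by simp)
      (by simp [hwk]) (by simp [Ne.symm hk.2]) (by simp [Ne.symm hk.1])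
  · refine D.scal_comm π ψ hψ hK (by omega) ha hw hij hwj c (Pi.single l 1)
      (Pi.single l 1 - (w l / w k) • Pi.single k 1) (by simp [hkl]) ?_
      (by simp [Ne.symm hl.2, Ne.symm hk.2]) (by simp [Ne.symm hl.1])
    simp [sub_dotProduct, div_mul_cancel₀ _ hwk]

include hψ hK in
/-- Torus route. -/
theorem Mirab.scal_torus (hm : 2 ≤ m) (ha : D.mult π ψ = 1) {w : Fin m → F} (hw : w ≠ 0)
    (hw0 : w (i0 hm) = 0) {h : G} {μ : F} (hμ : μ ≠ 1) (hh : h ∈ D.stab π ψ w)
    (hc : ∀ c, h * D.L (xTV hm c) = D.L (xTV hm (μ * c)) * h) :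
    D.scal π ψ w (D.L (xTV hm 1)) = 1 := by
  refine D.scal_eq_one_of_conj π ψ hψ hK hm ha hw hh (x := D.L (xTV hm (1 / (μ - 1))))
    (D.L_mem_stab π ψ (det_xTV hm _) (xTV_fix hm hw0 _)) ?_
  rw [mul_inv_eq_iff_eq_mul, hc, ← map_mul, ← xTV_add]
  congr 3
  field_simp [sub_ne_zero.2 hμ]
  ring

/-- Conjugating the basic transvection by a matrix. -/
theorem mul_xTV_of_vec (hm : 2 ≤ m) {M : GL (Fin m) F} {a b μ : F}
    (hcol : M.1 *ᵥ Pi.single (i1 hm) 1 = a • Pi.single (i1 hm) 1)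
    (hrow : Pi.single (i0 hm) 1 ᵥ* M.1 = b • Pi.single (i0 hm) 1) (hab : a = μ * b) (c : F) :
    M * xTV hm c = xTV hm (μ * c) * M := by
  apply Units.ext
  show M.1 * (1 + _) = (1 + _) * M.1
  rw [mul_add, mul_one, add_mul, one_mul, mul_vecMulVec, vecMulVec_mul, mulVec_smul, hcol, hrow,
    smul_smul, vecMulVec_smul, smul_vecMulVec, smul_vecMulVec, smul_smul, hab]
  congr 2
  ring

include hψ hK in
theorem Mirab.scal_three (ha : D.mult π ψ = 1) (hm : 2 ≤ m) (hm3 : m = 3) (hq : 4 ≤ Fintype.card F)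
    {w : Fin m → F} (hw : w ≠ 0) (hw0 : w (i0 hm) = 0) :
    D.scal π ψ w (D.L (xTV hm 1)) = 1 := by
  subst hm3
  classical
  have e0 : i0 hm = 0 := rfl
  have e1 : i1 hm = 1 := rfl
  rw [e0] at hw0
  by_cases hw2 : w 2 = 0
  · exact D.scal_comm π ψ hψ hK hm ha hw (i0_ne_i1 hm).symm hw0 1 (Pi.single 2 1) (Pi.single 2 1)
      (by simp) (by simp [hw2]) (by simp [e1]) (by simp [e0])
  obtain ⟨α, hα⟩ : ∃ α : F, α ∉ ({0, 1, -1} : Finset F) := by
    by_contra hne
    simp only [not_exists, not_not] at hne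
    have h1 := Finset.card_le_card (show (Finset.univ : Finset F) ⊆ {0, 1, -1} from fun x _ => hne x)
    have h2 : ({0, 1, -1} : Finset F).card ≤ 3 := Finset.card_le_three
    rw [Finset.card_univ] at h1
    omega
  simp only [Finset.mem_insert, Finset.mem_singleton, not_or] at hα
  obtain ⟨hα0, hα1, hα2⟩ := hα
  set N : Matrix (Fin 3) (Fin 3) F := !![α⁻¹, 0, 0; 0, α, (1 - α) * w 1 / w 2; 0, 0, 1] with hN
  have hdet : N.det = 1 := by simp [hN, det_fin_three, hα0]
  set M := GeneralLinearGroup.mkOfDetNeZero N (by rw [hdet]; exact one_ne_zero) with hM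
  refine D.scal_torus π ψ hψ hK hm ha hw hw0 (h := D.L M) (μ := α * α) ?_ ?_ ?_
  · intro h
    have : (α - 1) * (α + 1) = 0 := by linear_combination h
    rcases mul_eq_zero.1 this with h' | h'
    · exact hα1 (sub_eq_zero.1 h')
    · exact hα2 (eq_neg_of_add_eq_zero_left h')
  · refine D.L_mem_stab π ψ hdet ?_
    show N *ᵥ w = w
    funext r
    fin_cases r <;> simp [hN, mulVec, dotProduct, Fin.sum_univ_three, hw0]
    field_simp; ring
  · intro c
    rw [← map_mul, mul_xTV_of_vec hm (M := M) (a := α) (b := α⁻¹) (μ := α * α) ?_ ?_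
      (by field_simp) c, map_mul]
    · show N *ᵥ _ = _
      funext r
      rw [e1]
      fin_cases r <;> simp [hN, mulVec, dotProduct, Fin.sum_univ_three]
    · show _ ᵥ* N = _
      funext r
      rw [e0]
      fin_cases r <;> simp [hN, vecMul, dotProduct, Fin.sum_univ_three]

include hψ hK in
theorem Mirab.scal_two (ha : D.mult π ψ = 1) (hm : 2 ≤ m) (hm2 : m = 2) {α : F} (hα0 : α ≠ 0)
    (hα : α ^ 3 ≠ 1) {w : Fin m → F} (hw : w ≠ 0) (hw0 : w (i0 hm) = 0) :
    D.scal π ψ w (D.L (xTV hm 1)) = 1 := by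
  subst hm2
  have e0 : i0 hm = 0 := rfl
  have e1 : i1 hm = 1 := rfl
  rw [e0] at hw0
  set N : Matrix (Fin 2) (Fin 2) F := !![(α ^ 2)⁻¹, 0; 0, α] with hN
  have hdet : N.det = α⁻¹ := by simp [hN, det_fin_two]; field_simp
  set M := GeneralLinearGroup.mkOfDetNeZero N (by rw [hdet]; exact inv_ne_zero hα0) with hM
  refine D.scal_torus π ψ hψ hK hm ha hw hw0 (h := D.L M) (μ := α ^ 3) hα ?_ ?_
  · show π (D.L M) * _ = _
    rw [D.lev_mul_E]
    congr 2
    show N.det • (N *ᵥ w) = w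
    rw [hdet]
    funext r
    fin_cases r <;> simp [hN, mulVec, dotProduct, Fin.sum_univ_two, hw0, hα0]
  · intro c
    rw [← map_mul, mul_xTV_of_vec hm (M := M) (a := α) (b := (α ^ 2)⁻¹) (μ := α ^ 3) ?_ ?_
      (by field_simp) c, map_mul]
    · show N *ᵥ _ = _
      funext r
      rw [e1]
      fin_cases r <;> simp [hN, mulVec, dotProduct, Fin.sum_univ_two]
    · show _ ᵥ* N = _
      funext r
      rw [e0]
      fin_cases r <;> simp [hN, vecMul, dotProduct, Fin.sum_univ_two]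

end CfsgLib.LinDeg
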