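import Cfsg.Agent.Lib.LinDeg.Core
import Cfsg.Agent.Lib.LinDeg.Constituent

/-!
One inductive step of the lower bound for degrees of `SL_{m+1}` and `GL_{m+1}`.
-/

set_option autoImplicit false

namespace CfsgLib.LinDeg

open Module Matrix

/-- `1 + q + ... + q^(n-1)`. -/
def geo (q n : ℕ) : ℕ := ∑ i ∈ Finset.range n, q ^ i

theorem geo_mul_pred (q n : ℕ) (hq : 1 ≤ q) : geo q n * (q - 1) + 1 = q ^ n := by
  induction n with
  | zero => simp [geo]
  | succ n ih =>
    have e : geo q (n + 1) = geo q n + q ^ n := Finset.sum_range_succ _ _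
    rw [e, pow_succ, add_mul]
    have h2 : q ^ n * (q - 1) + q ^ n = q ^ n * q := by
      calc q ^ n * (q - 1) + q ^ n = q ^ n * ((q - 1) + 1) := by ring
        _ = q ^ n * q := by rw [Nat.sub_add_cancel hq]
    omega

theorem geo_succ (q n : ℕ) : geo q (n + 1) = geo q n + q ^ n := Finset.sum_range_succ _ _

theorem geo_succ' (q n : ℕ) : geo q (n + 1) = q * geo q n + 1 := by
  rw [geo, Finset.sum_range_succ', geo, Finset.mul_sum]
  congr 1
  exact Finset.sum_congr rfl fun i _ => by rw [pow_succ, mul_comm]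

theorem geo_le_two_mul (q n : ℕ) (hq : 2 ≤ q) : geo q (n + 1) ≤ 2 * (q ^ n - 1) + 1 := by
  have h := geo_mul_pred q n (by omega)
  have h1 := geo_succ' q n
  have h2 : q * geo q n ≤ 2 * (geo q n * (q - 1)) := by
    calc q * geo q n ≤ (2 * (q - 1)) * geo q n := Nat.mul_le_mul_right _ (by omega)
      _ = 2 * (geo q n * (q - 1)) := by ring
  omega

theorem not_dvd_case {q m k : ℕ} (hq : 2 ≤ q) (hm : 2 ≤ m) (hk : k + 2 = geo q (m + 1))
    (h : (k : ℤ) ∣ (geo q (m + 1) * (q ^ m - 1) : ℕ) * ((k : ℤ) - (q : ℤ) ^ m)) : False := by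
  have h1 := geo_succ' q m
  have h2 := geo_succ q m
  have h3 := geo_mul_pred q m (by omega)
  have h4 : 3 ≤ geo q m := by
    calc 3 ≤ q + 1 := by omega
      _ = geo q 2 := by simp [geo, Finset.sum_range_succ, add_comm]
      _ ≤ geo q m := Finset.sum_le_sum_of_subset (Finset.range_subset_range.2 hm)
  have hpos : 1 ≤ q ^ m := Nat.one_le_pow _ _ (by omega)
  have h5 : (k : ℤ) ∣ ((2 * (q ^ m - 1) * q ^ m : ℕ) : ℤ) := by
    obtain ⟨c, hc⟩ := h
    refine ⟨(((q ^ m - 1 : ℕ)) : ℤ) * (((k : ℤ) + 2) - (q : ℤ) ^ m) - c, ?_⟩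
    have hk' : ((geo q (m + 1) : ℕ) : ℤ) = (k : ℤ) + 2 := by exact_mod_cast hk.symm
    push_cast at hc ⊢
    rw [hk'] at hc
    linear_combination -hc
  have h6 : k ∣ 2 * (q ^ m - 1) * q ^ m := Int.natCast_dvd_natCast.1 h5
  have hcop : Nat.Coprime k (q ^ m) := by
    refine Nat.Coprime.pow_right m ?_
    refine Nat.coprime_of_dvd fun r hr hrk hrq => ?_
    have h7 : r ∣ q * geo q m := Dvd.dvd.mul_right hrq _
    have h8 : r ∣ k + 1 := by
      rw [show k + 1 = q * geo q m by omega]; exact h7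
    exact hr.not_dvd_one ((Nat.dvd_add_right hrk).1 h8)
  obtain ⟨c, hc⟩ := hcop.dvd_of_dvd_mul_right h6
  have hpow : q ≤ q ^ m := Nat.le_self_pow (by omega) q
  rcases c with _ | _ | c
  · omega
  · have h9 : geo q m = q ^ m := by omega
    rw [h9] at h3
    rcases Nat.lt_or_ge q 3 with hq3 | hq3
    · obtain rfl : q = 2 := by omega
      omega
    · have : 2 * q ^ m ≤ q ^ m * (q - 1) := by
        rw [mul_comm 2]; exact Nat.mul_le_mul_left _ (by omega)
      omega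
  · have : k * 2 ≤ k * (c + 1 + 1) := Nat.mul_le_mul_left _ (by omega)
    omega

variable {F : Type*} [Field F] [Fintype F] {G : Type*} [Group G] {m : ℕ}

/-- The size of the transvection class. -/
def HasClassSize (D : Mirab F m G) : Prop :=
  ∀ v : Fin m → F, v ≠ 0 →
    Nat.card {x : G // IsConj (D.u v) x} = geo (Fintype.card F) (m + 1) * (Fintype.card F ^ m - 1)

/-- Transvections of the radical and of the Levi complement are conjugate. -/
def HasOneClass (D : Mirab F m G) : Prop :=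
  ∀ v : Fin m → F, v ≠ 0 → ∀ (u φ : Fin m → F) (h : φ ⬝ᵥ u = 0), u ≠ 0 → φ ≠ 0 →
    IsConj (D.u v) (D.L (tGL u φ h))

variable (D : Mirab F m G) {k : ℕ} (ρ : Representation ℂ G (Fin k → ℂ)) [ρ.IsIrreducible]
  (ψ : AddChar F ℂ)

theorem card_cast_ne_zero : (Fintype.card F : ℂ) ≠ 0 := by exact_mod_cast Fintype.card_ne_zero

/-- The index `0`. -/
def i0 (hm : 2 ≤ m) : Fin m := ⟨0, by omega⟩

/-- The index `1`. -/
def i1 (hm : 2 ≤ m) : Fin m := ⟨1, by omega⟩

theorem i0_ne_i1 (hm : 2 ≤ m) : i0 hm ≠ i1 hm := by simp [i0, i1]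

theorem dot_eq_zero {i j : Fin m} (h : i ≠ j) (c : F) :
    (Pi.single j 1 : Fin m → F) ⬝ᵥ (c • Pi.single i 1) = 0 := by
  simp [Pi.single_apply, h]

/-- The basic transvection `1 + c e₁ e₀ᵀ`. -/
def xTV (hm : 2 ≤ m) (c : F) : GL (Fin m) F :=
  tGL (c • Pi.single (i1 hm) 1) (Pi.single (i0 hm) 1) (dot_eq_zero (i0_ne_i1 hm).symm c)

include ψ in
theorem Mirab.degree_ne [Finite G] (hψ : ψ.IsPrimitive) (hm : 2 ≤ m) (hcl : HasClassSize D)
    (ha : D.mult ρ ψ = 1) : k + 2 ≠ geo (Fintype.card F) (m + 1) := by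
  intro hk
  have hK := card_cast_ne_zero (F := F)
  set v : Fin m → F := fun _ => 1 with hv
  have hv0 : v ≠ 0 := fun h => one_ne_zero (congrFun h ⟨0, by omega⟩)
  have hdim := D.finrank_eq ρ ψ hψ hK hm
  rw [Module.finrank_fin_fun, ha, one_mul] at hdim
  have hpos : 1 ≤ Fintype.card F ^ m := Nat.one_le_pow _ _ Fintype.card_pos
  have ht : ρ.character (D.u v) = (((k : ℤ) - (Fintype.card F : ℤ) ^ m : ℤ) : ℂ) := by
    show LinearMap.trace ℂ _ (ρ (D.u v)) = _
    rw [D.trace_u ρ ψ hψ hK hm ha hv0]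
    have : (finrank ℂ (D.W ρ ψ) : ℤ) = (k : ℤ) - ((Fintype.card F : ℤ) ^ m - 1) := by
      have := congrArg (fun n : ℕ => (n : ℤ)) hdim
      push_cast [Nat.cast_sub hpos] at this
      linarith
    have h' := congrArg (fun n : ℤ => (n : ℂ)) this
    push_cast at h' ⊢
    linear_combination h'
  have h := dvd_card_class_mul ρ (D.u v) _ ht
  rw [hcl v hv0] at h
  exact not_dvd_case Fintype.one_lt_card hm hk h

include ψ in
/-- The step for `m ≥ 3`. -/
theorem Mirab.step [Finite G] (hψ : ψ.IsPrimitive) (hm : 2 ≤ m) (hne : ∃ v, ρ (D.u v) ≠ 1)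
    (hone : HasOneClass D) (hcl : HasClassSize D)
    (hscal : D.mult ρ ψ = 1 → ∀ w : Fin m → F, w ≠ 0 → (xTV hm 1).1 *ᵥ w = w →
      D.scal ρ ψ w (D.L (xTV hm 1)) = 1)
    (hW : D.mult ρ ψ = 1 → D.onW ρ ψ (xTV hm 1) ≠ 1 →
      geo (Fintype.card F) m ≤ finrank ℂ (D.W ρ ψ) + 1) :
    geo (Fintype.card F) (m + 1) ≤ k + 1 := by
  have hK := card_cast_ne_zero (F := F)
  have hq : 2 ≤ Fintype.card F := Fintype.one_lt_card
  have hdim := D.finrank_eq ρ ψ hψ hK hm
  rw [Module.finrank_fin_fun] at hdim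
  have hpos := D.mult_pos ρ ψ hψ hK hm hne
  rcases Nat.lt_or_ge (D.mult ρ ψ) 2 with ha | ha
  · have ha1 : D.mult ρ ψ = 1 := by omega
    have hv : (fun _ => 1 : Fin m → F) ≠ 0 := fun h => one_ne_zero (congrFun h ⟨0, by omega⟩)
    have hu1 : ((1 : F) • Pi.single (i1 hm) (1 : F) : Fin m → F) ≠ 0 := by simp
    have hu0 : (Pi.single (i0 hm) (1 : F) : Fin m → F) ≠ 0 := by simp
    have hd := dot_eq_zero (F := F) (i0_ne_i1 hm).symm 1
    have hnon : D.onW ρ ψ (xTV hm 1) ≠ 1 :=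
      D.onW_ne_one ρ ψ hψ hK hm ha1 hd hv (hone _ hv _ _ hd hu1 hu0) (hscal ha1)
    have h1 := hW ha1 hnon
    have h2 := D.degree_ne ρ ψ hψ hm hcl ha1
    have h3 := geo_succ (Fintype.card F) m
    have h4 : 1 ≤ Fintype.card F ^ m := Nat.one_le_pow _ _ (by omega)
    rw [ha1, one_mul] at hdim
    omega
  · have h1 := geo_le_two_mul (Fintype.card F) m hq
    have h2 : 2 * (Fintype.card F ^ m - 1) ≤ D.mult ρ ψ * (Fintype.card F ^ m - 1) :=
      Nat.mul_le_mul_right _ ha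
    omega

end CfsgLib.LinDeg
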